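import Groth.Agent.CohDer1.PointedSplit.Split
import Mathlib.RingTheory.HopfAlgebra.Convolution
import Mathlib.RingTheory.Adjoin.Basic

/-! # Homomorphisms from diagonalizable groups that agree modulo a unipotent kernel are conjugate -/

set_option autoImplicit false
set_option linter.style.haveILetI false

noncomputable section

open TensorProduct HopfRep MonoidAlgebra WithConv
open Groth.Agent.HopfLib Groth.Agent.HopfQuot
open Groth.Agent.CohDer1.PointedSplit

universe u

namespace Groth.Agent.HMTor29.Conj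

variable {k : Type u} [Field k] {A : Type u} [CommRing A] [HopfAlgebra k A]
  {R R' : Type u} [CommRing R] [Algebra k R] [CommRing R'] [Algebra k R']

/-- the product of two points as a map on the tensor square -/
abbrev lf (f g : A →ₐ[k] R) : A ⊗[k] A →ₐ[k] R := Algebra.TensorProduct.lift f g fun _ _ => .all _ _

theorem mul_apply' (f g : WithConv (A →ₐ[k] R)) (a : A) :
    (f * g).ofConv a = lf f.ofConv g.ofConv (Coalgebra.comul (R := k) a) := by
  rw [AlgHom.convMul_apply]

theorem post_mul (ψ : R →ₐ[k] R') (f g : WithConv (A →ₐ[k] R)) :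
    toConv (ψ.comp (f * g).ofConv) = toConv (ψ.comp f.ofConv) * toConv (ψ.comp g.ofConv) := by
  refine WithConv.ofConv_injective (AlgHom.ext fun a => ?_)
  rw [mul_apply']
  show ψ ((f * g).ofConv a) = _
  rw [mul_apply']
  generalize Coalgebra.comul (R := k) a = z
  induction z with
  | zero => simp
  | add x y hx hy => rw [map_add, map_add, hx, hy, map_add]
  | tmul x y => simp

/-- post-composition on points -/
def post (ψ : R →ₐ[k] R') : WithConv (A →ₐ[k] R) →* WithConv (A →ₐ[k] R') :=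
  MonoidHom.mk' (fun f => toConv (ψ.comp f.ofConv)) fun f g => post_mul ψ f g

theorem post_apply (ψ : R →ₐ[k] R') (f : WithConv (A →ₐ[k] R)) (a : A) : (post ψ f).ofConv a = ψ (f.ofConv a) := rfl

/-- a constant point -/
def cst (R : Type u) [CommRing R] [Algebra k R] : WithConv (A →ₐ[k] k) →* WithConv (A →ₐ[k] R) :=
  post (Algebra.ofId k R)

theorem cst_apply (u : WithConv (A →ₐ[k] k)) (a : A) : (cst R u).ofConv a = algebraMap k R (u.ofConv a) := rfl

theorem one_apply' (a : A) :
    (1 : WithConv (A →ₐ[k] R)).ofConv a = algebraMap k R (Coalgebra.counit (R := k) a) :=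
  AlgHom.convOne_apply a

variable {M : Type u} [CommGroup M]

/-- compatibility of a point with comultiplication of the group algebra -/
def IsHomPt (f : WithConv (A →ₐ[k] MonoidAlgebra k M)) : Prop :=
  post (Bialgebra.comulAlgHom k (MonoidAlgebra k M)) f =
    post (Algebra.TensorProduct.includeLeft : _ →ₐ[k] MonoidAlgebra k M ⊗[k] MonoidAlgebra k M) f *
      post (Algebra.TensorProduct.includeRight : _ →ₐ[k] MonoidAlgebra k M ⊗[k] MonoidAlgebra k M) f

theorem isHomPt_bialgHom (f : A →ₐc[k] MonoidAlgebra k M) : IsHomPt (toConv (f : A →ₐ[k] MonoidAlgebra k M)) := by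
  refine WithConv.ofConv_injective (AlgHom.ext fun a => ?_)
  rw [mul_apply']
  show Coalgebra.comul (R := k) (f a) = _
  rw [← CoalgHomClass.map_comp_comul_apply f a]
  generalize Coalgebra.comul (R := k) a = z
  induction z with
  | zero => simp
  | add x y hx hy => simp only [map_add, hx, hy]
  | tmul x y => simp [post]

theorem IsHomPt.conj {f : WithConv (A →ₐ[k] MonoidAlgebra k M)} (hf : IsHomPt f) (u : WithConv (A →ₐ[k] k)) :
    IsHomPt (cst _ u * f * (cst _ u)⁻¹) := by
  have hc : ∀ (ψ : MonoidAlgebra k M →ₐ[k] MonoidAlgebra k M ⊗[k] MonoidAlgebra k M),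
      post ψ (cst _ u) = cst _ u := fun ψ => by
    refine WithConv.ofConv_injective (AlgHom.ext fun a => ?_)
    exact ψ.commutes _
  unfold IsHomPt
  rw [map_mul, map_mul, map_inv, hc, map_mul, map_mul, map_inv, hc, map_mul, map_mul, map_inv, hc, hf]
  exact conj_mul.symm

theorem apply_groupLike_mul {G : A} (hG : IsGroupLikeElem k G) (f g : WithConv (A →ₐ[k] R)) :
    (f * g).ofConv G = f.ofConv G * g.ofConv G := by
  rw [mul_apply', hG.comul_eq_tmul_self, Algebra.TensorProduct.lift_tmul]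

section Skew

variable {S : Subalgebra k A} (hS : ∀ s ∈ S, ∃ z : S ⊗[k] S,
    Algebra.TensorProduct.map S.val S.val z = Coalgebra.comul (R := k) s)

include hS in
theorem agree_mul {f f' g g' : WithConv (A →ₐ[k] R)} (hf : ∀ s ∈ S, f.ofConv s = f'.ofConv s)
    (hg : ∀ s ∈ S, g.ofConv s = g'.ofConv s) {s : A} (hs : s ∈ S) : (f * g).ofConv s = (f' * g').ofConv s := by
  obtain ⟨z, hz⟩ := hS s hs
  rw [mul_apply', mul_apply', ← hz]
  clear hz
  induction z with
  | zero => simp
  | add x y hx hy => simp only [map_add, hx, hy]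
  | tmul x y => simp [hf _ x.2, hg _ y.2]

variable {t G : A} (hG : IsGroupLikeElem k G) (Ω : S ⊗[k] S)
  (hX : Algebra.TensorProduct.map S.val S.val Ω = Coalgebra.comul (R := k) t - t ⊗ₜ[k] G - (1 : A) ⊗ₜ[k] t)

include hX in
theorem mul_skew (f g : WithConv (A →ₐ[k] R)) :
    (f * g).ofConv t = f.ofConv t * g.ofConv G + g.ofConv t +
      lf f.ofConv g.ofConv (Algebra.TensorProduct.map S.val S.val Ω) := by
  rw [mul_apply', hX, map_sub, map_sub, Algebra.TensorProduct.lift_tmul, Algebra.TensorProduct.lift_tmul, map_one]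
  ring

include hX in
theorem mul_skew_left {v : WithConv (A →ₐ[k] R)} (hv : ∀ s ∈ S, v.ofConv s = (1 : WithConv (A →ₐ[k] R)).ofConv s)
    (g : WithConv (A →ₐ[k] R)) :
    (v * g).ofConv t = (v.ofConv t - (1 : WithConv (A →ₐ[k] R)).ofConv t) * g.ofConv G + g.ofConv t := by
  have he : ∀ z : S ⊗[k] S, lf v.ofConv g.ofConv (Algebra.TensorProduct.map S.val S.val z) =
      lf (1 : WithConv (A →ₐ[k] R)).ofConv g.ofConv (Algebra.TensorProduct.map S.val S.val z) := fun z => by
    induction z with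
    | zero => simp
    | add x y hx hy => simp only [map_add, hx, hy]
    | tmul x y => simp [hv _ x.2]
  have h1 := mul_skew Ω hX (1 : WithConv (A →ₐ[k] R)) g
  rw [_root_.one_mul, ← he] at h1
  rw [mul_skew Ω hX v g]
  linear_combination -h1

include hX in
theorem mul_skew_right {v : WithConv (A →ₐ[k] R)} (hv : ∀ s ∈ S, v.ofConv s = (1 : WithConv (A →ₐ[k] R)).ofConv s)
    (hGS : G ∈ S) (hG : IsGroupLikeElem k G) (g : WithConv (A →ₐ[k] R)) :
    (g * v).ofConv t = g.ofConv t + (v.ofConv t - (1 : WithConv (A →ₐ[k] R)).ofConv t) := by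
  have he : ∀ z : S ⊗[k] S, lf g.ofConv v.ofConv (Algebra.TensorProduct.map S.val S.val z) =
      lf g.ofConv (1 : WithConv (A →ₐ[k] R)).ofConv (Algebra.TensorProduct.map S.val S.val z) := fun z => by
    induction z with
    | zero => simp
    | add x y hx hy => simp only [map_add, hx, hy]
    | tmul x y => simp [hv _ y.2]
  have h1 := mul_skew Ω hX g (1 : WithConv (A →ₐ[k] R))
  rw [_root_.mul_one, ← he, one_apply' G, hG.counit_eq_one, map_one, _root_.mul_one] at h1
  rw [mul_skew Ω hX g v, hv G hGS, one_apply' G, hG.counit_eq_one, map_one, _root_.mul_one]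
  linear_combination -h1

include hS hX in
theorem conj_skew {v : WithConv (A →ₐ[k] R)} (hv : ∀ s ∈ S, v.ofConv s = (1 : WithConv (A →ₐ[k] R)).ofConv s)
    (hvi : ∀ s ∈ S, (v⁻¹).ofConv s = (1 : WithConv (A →ₐ[k] R)).ofConv s)
    (hGS : G ∈ S) (hG : IsGroupLikeElem k G) (g : WithConv (A →ₐ[k] R)) :
    (v * g * v⁻¹).ofConv t =
      g.ofConv t + (v.ofConv t - (1 : WithConv (A →ₐ[k] R)).ofConv t) * (g.ofConv G - 1) := by
  have h0 := mul_skew_right Ω hX hvi hGS hG v
  rw [mul_inv_cancel] at h0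
  rw [mul_skew_right Ω hX hvi hGS hG (v * g), mul_skew_left Ω hX hv g]
  linear_combination -h0

end Skew

section Main

variable [IsAlgClosed k]

theorem inv_agree {S : Subalgebra k A} (hS : SGA3.IsHopfSubalgebra k A S) {v : WithConv (A →ₐ[k] R)}
    (hv : ∀ s ∈ S, v.ofConv s = (1 : WithConv (A →ₐ[k] R)).ofConv s) :
    ∀ s ∈ S, (v⁻¹).ofConv s = (1 : WithConv (A →ₐ[k] R)).ofConv s := fun s hs => by
  show v.ofConv (HopfAlgebraStruct.antipode k s) = _
  rw [hv _ (hS.2 s hs), one_apply', one_apply', HopfAlgebra.counit_antipode]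

/-- evaluation at a character -/
def ev (χ : M →* k) : MonoidAlgebra k M →ₐ[k] k := MonoidAlgebra.lift k k M χ

theorem ev_el (χ : M →* k) (m : M) : ev χ (el k m) = χ m := by simp [ev, el]

omit [IsAlgClosed k] in
theorem co₂_tmul (a b : M) (x y : MonoidAlgebra k M) : co₂ a b (x ⊗ₜ[k] y) = co a x * co b y := rfl

omit [IsAlgClosed k] in
theorem co₂_comul (a b : M) (d : MonoidAlgebra k M) [DecidableEq M] :
    co₂ a b (Coalgebra.comul (R := k) d) = if a = b then co a d else 0 := by
  induction d using MonoidAlgebra.induction_on with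
  | of m =>
    show co₂ a b (Coalgebra.comul (R := k) (el k m)) = if a = b then co a (el k m) else 0
    rw [comul_el, co₂_tmul, co_el, co_el]
    split_ifs <;> simp_all
  | add x y hx hy => simp only [map_add, hx, hy]; split_ifs <;> simp
  | smul c x hx => simp only [map_smul, hx]; split_ifs <;> simp

omit [IsAlgClosed k] in
/-- skew primitive elements of a group algebra -/
theorem skew_primitive {d : MonoidAlgebra k M} {m : M}
    (hd : Coalgebra.comul (R := k) d = d ⊗ₜ[k] el k m + 1 ⊗ₜ[k] d) :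
    ∃ c : k, d = c • (el k m - 1) ∧ (m = 1 → d = 0) := by
  classical
  have key : ∀ a b, (if a = b then co a d else 0) =
      co a d * (if m = b then 1 else 0) + (if (1 : M) = a then 1 else 0) * co b d := by
    intro a b
    rw [← co₂_comul, hd, map_add, co₂_tmul, co₂_tmul, co_el, ← el_one, co_el]
  by_cases hm : m = 1
  · subst hm
    have h0 : d = 0 := ext_co fun a => by
      rw [map_zero]
      by_cases ha : (1 : M) = a
      · subst ha
        have h := key 1 1
        simp only [if_true, mul_one, one_mul] at h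
        linear_combination -h
      · have h := key a a
        simpa [ha] using h
    exact ⟨0, by rw [h0, zero_smul], fun _ => h0⟩
  · refine ⟨co m d, ext_co fun a => ?_, fun h => absurd h hm⟩
    rw [map_smul, map_sub, co_el, ← el_one, co_el, smul_eq_mul]
    by_cases ha : m = a
    · subst ha
      simp [Ne.symm hm]
    · by_cases ha1 : (1 : M) = a
      · subst ha1
        have h := key 1 m
        simp only [if_neg (Ne.symm hm), if_true, _root_.mul_one, _root_.one_mul] at h
        simp only [if_neg ha, if_true]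
        linear_combination -h
      · have h := key a a
        simp only [if_true, if_neg ha, if_neg ha1, mul_zero, zero_mul, add_zero] at h
        simp [h, ha, ha1]

variable {M0 : Type u} [CommGroup M0] [Algebra.FiniteType k A]

/-- enough characters: every non-trivial element takes every non-zero value -/
def Divisible (k : Type u) [Field k] (M : Type u) [CommGroup M] : Prop :=
  ∀ m : M, m ≠ 1 → ∀ z : k, z ≠ 0 → ∃ χ : M →* k, χ m = z

theorem exists_conj (φ : MonoidAlgebra k M0 →ₐc[k] A) (hφ : Function.Injective φ)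
    (J : Ideal A) [J.IsHopfIdeal k] (hJ : J = Ideal.map (φ : MonoidAlgebra k M0 →+* A)
      (RingHom.ker (Bialgebra.counitAlgHom k (MonoidAlgebra k M0))))
    (hU : IsUnipotent k (A ⧸ J)) (hM : Divisible k M) (f₁ f₂ : A →ₐc[k] MonoidAlgebra k M)
    (h : ∀ d, f₁ (φ d) = f₂ (φ d)) :
    ∃ u : WithConv (A →ₐ[k] k),
      toConv (f₂ : A →ₐ[k] MonoidAlgebra k M) =
        cst _ u * toConv (f₁ : A →ₐ[k] MonoidAlgebra k M) * (cst _ u)⁻¹ := by
  classical
  haveI : IsNoetherianRing A := Algebra.FiniteType.isNoetherianRing k A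
  let F₁ := toConv (f₁ : A →ₐ[k] MonoidAlgebra k M)
  let F₂ := toConv (f₂ : A →ₐ[k] MonoidAlgebra k M)
  let P : Subalgebra k A → Prop := fun S => SGA3.IsHopfSubalgebra k A S ∧ base φ ≤ S ∧
    ∃ u : WithConv (A →ₐ[k] k), ∀ s ∈ S, F₂.ofConv s = (cst _ u * F₁ * (cst _ u)⁻¹).ofConv s
  have hbase : P (base φ) := by
    refine ⟨isHopfSubalgebra_base φ, le_rfl, 1, ?_⟩
    rintro _ ⟨d, rfl⟩
    rw [map_one, _root_.one_mul, inv_one, _root_.mul_one]
    exact (h d).symm
  obtain ⟨I, ⟨S, hPS, rfl⟩, hmax⟩ := set_has_maximal_iff_noetherian.2 (inferInstance : IsNoetherian A A)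
    {I : Ideal A | ∃ S : Subalgebra k A, P S ∧ SGA3.augIdealSpan k A S = I} ⟨_, base φ, hbase, rfl⟩
  obtain ⟨hS, hle, u, hu⟩ := hPS
  by_cases htop : S = ⊤
  · exact ⟨u, WithConv.ofConv_injective (AlgHom.ext fun a => hu a (htop ▸ Algebra.mem_top))⟩
  exfalso
  obtain ⟨t, g, htS, Ω, hX⟩ := exists_skew_mod φ J hφ hJ hU hS hle htop
  have hX' : Algebra.TensorProduct.map S.val S.val Ω =
      Coalgebra.comul (R := k) t - t ⊗ₜ[k] φ (el k g) - (1 : A) ⊗ₜ[k] t := hX
  have hS' : ∀ s ∈ S, ∃ z : S ⊗[k] S, Algebra.TensorProduct.map S.val S.val z = Coalgebra.comul (R := k) s :=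
    fun s hs => hS.1 s hs
  have hG : IsGroupLikeElem k (φ (el k g)) := (MonoidAlgebra.isGroupLikeElem_single_one g).map φ
  have hGS : φ (el k g) ∈ S := hle ⟨_, rfl⟩
  let F := cst _ u * F₁ * (cst _ u)⁻¹
  have hF : IsHomPt F := (isHomPt_bialgHom f₁).conj u
  have hF₂ : IsHomPt F₂ := isHomPt_bialgHom f₂
  obtain ⟨m, hm⟩ := MonoidAlgebra.isGroupLikeElem_iff_mem_range_single_one.1 (hG.map f₂)
  have hm2 : F₂.ofConv (φ (el k g)) = el k m := hm.symm
  have hmF : F.ofConv (φ (el k g)) = el k m := (hu _ hGS).symm.trans hm2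
  let d := F₂.ofConv t - F.ofConv t
  have hd : Coalgebra.comul (R := k) d = d ⊗ₜ[k] el k m + 1 ⊗ₜ[k] d := by
    have e : ∀ H : WithConv (A →ₐ[k] MonoidAlgebra k M), IsHomPt H → H.ofConv (φ (el k g)) = el k m →
        Coalgebra.comul (R := k) (H.ofConv t) = H.ofConv t ⊗ₜ[k] el k m + 1 ⊗ₜ[k] H.ofConv t +
          lf (post (Algebra.TensorProduct.includeLeft : _ →ₐ[k] MonoidAlgebra k M ⊗[k] MonoidAlgebra k M) H).ofConv
            (post (Algebra.TensorProduct.includeRight : _ →ₐ[k] MonoidAlgebra k M ⊗[k] MonoidAlgebra k M) H).ofConv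
            (Algebra.TensorProduct.map S.val S.val Ω) := by
      intro H hH hHm
      have h1 := congrArg (fun p => p.ofConv t) hH
      simp only [mul_skew Ω hX'] at h1
      refine h1.trans ?_
      simp only [post_apply, hHm, Algebra.TensorProduct.includeLeft_apply, Algebra.TensorProduct.includeRight_apply,
        Algebra.TensorProduct.tmul_mul_tmul, _root_.mul_one, _root_.one_mul]
    have hl : ∀ z : S ⊗[k] S,
        lf (post (Algebra.TensorProduct.includeLeft : _ →ₐ[k] MonoidAlgebra k M ⊗[k] MonoidAlgebra k M) F₂).ofConv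
            (post (Algebra.TensorProduct.includeRight : _ →ₐ[k] MonoidAlgebra k M ⊗[k] MonoidAlgebra k M) F₂).ofConv
            (Algebra.TensorProduct.map S.val S.val z) =
        lf (post (Algebra.TensorProduct.includeLeft : _ →ₐ[k] MonoidAlgebra k M ⊗[k] MonoidAlgebra k M) F).ofConv
            (post (Algebra.TensorProduct.includeRight : _ →ₐ[k] MonoidAlgebra k M ⊗[k] MonoidAlgebra k M) F).ofConv
            (Algebra.TensorProduct.map S.val S.val z) := fun z => by
      induction z with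
      | zero => simp
      | add x y hx hy => simp only [map_add, hx, hy]
      | tmul x y =>
        simp only [Algebra.TensorProduct.map_tmul, Subalgebra.coe_val, Algebra.TensorProduct.lift_tmul, post_apply]
        rw [hu _ x.2, hu _ y.2]
    show Coalgebra.comul (R := k) (F₂.ofConv t - F.ofConv t) = _
    rw [map_sub, e F₂ hF₂ hm2, e F hF hmF, hl]
    simp only [d, TensorProduct.sub_tmul, TensorProduct.tmul_sub]
    abel
  obtain ⟨c, hc, hc1⟩ := skew_primitive hd
  obtain ⟨v, hvS, hvt⟩ : ∃ v : WithConv (A →ₐ[k] k), (∀ s ∈ S, v.ofConv s = (1 : WithConv (A →ₐ[k] k)).ofConv s) ∧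
      algebraMap k (MonoidAlgebra k M) (v.ofConv t - (1 : WithConv (A →ₐ[k] k)).ofConv t) * (el k m - 1) = d := by
    by_cases hd0 : d = 0
    · exact ⟨1, fun s _ => rfl, by rw [sub_self, map_zero, zero_mul, hd0]⟩
    have hm1 : m ≠ 1 := fun hm1 => hd0 (hc1 hm1)
    have hc0 : c ≠ 0 := fun h0 => hd0 (by rw [hc, h0, zero_smul])
    obtain ⟨z, hz⟩ := ((Set.finite_singleton (1 : k)).insert 0).infinite_compl.nonempty
    simp only [Set.mem_compl_iff, Set.mem_insert_iff, Set.mem_singleton_iff, not_or] at hz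
    obtain ⟨χ, hχ⟩ := hM m hm1 z hz.1
    have hq : 1 - z⁻¹ ≠ 0 := sub_ne_zero.2 fun e => hz.2 (inv_eq_one.1 e.symm)
    obtain ⟨ψ, hψ⟩ := hM m hm1 (1 - z⁻¹) hq
    let p₂ := post (ev χ) F₂
    let p₁ := post (ev χ) F
    let q := post (ev ψ) F
    let v₀ := p₂ * p₁⁻¹
    have hv₀ : ∀ s ∈ S, v₀.ofConv s = (1 : WithConv (A →ₐ[k] k)).ofConv s := fun s hs => by
      rw [← mul_inv_cancel p₁]
      exact agree_mul hS' (fun s hs => congrArg (ev χ) (hu s hs)) (fun _ _ => rfl) hs
    let v₁ := q * v₀ * q⁻¹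
    have hv₁ : ∀ s ∈ S, v₁.ofConv s = (1 : WithConv (A →ₐ[k] k)).ofConv s := fun s hs => by
      rw [show (1 : WithConv (A →ₐ[k] k)) = q * 1 * q⁻¹ by group]
      exact agree_mul hS' (fun s hs => agree_mul hS' (fun _ _ => rfl) hv₀ hs) (fun _ _ => rfl) hs
    refine ⟨v₁, hv₁, ?_⟩
    have e0 : (v₀ * p₁).ofConv t = p₂.ofConv t := by rw [inv_mul_cancel_right]
    have e1 : (v₁ * q).ofConv t = (q * v₀).ofConv t := by rw [inv_mul_cancel_right]
    rw [mul_skew_left Ω hX' hv₀] at e0
    rw [mul_skew_left Ω hX' hv₁, mul_skew_right Ω hX' hv₀ hGS hG] at e1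
    have hp₁G : p₁.ofConv (φ (el k g)) = z := by
      show ev χ (F.ofConv _) = z
      rw [hmF, ev_el, hχ]
    have hqG : q.ofConv (φ (el k g)) = 1 - z⁻¹ := by
      show ev ψ (F.ofConv _) = _
      rw [hmF, ev_el, hψ]
    have hdev : p₂.ofConv t - p₁.ofConv t = c * (z - 1) := by
      show ev χ (F₂.ofConv t) - ev χ (F.ofConv t) = _
      rw [← map_sub]
      show ev χ d = _
      rw [hc, map_smul, map_sub, ev_el, hχ, map_one, smul_eq_mul]
    rw [hp₁G] at e0
    rw [hqG] at e1
    have hval : v₁.ofConv t - (1 : WithConv (A →ₐ[k] k)).ofConv t = c := by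
      set δ₀ := v₀.ofConv t - (1 : WithConv (A →ₐ[k] k)).ofConv t
      set δ₁ := v₁.ofConv t - (1 : WithConv (A →ₐ[k] k)).ofConv t
      have h0 : δ₀ * z = c * (z - 1) := by linear_combination e0 + hdev
      have h1 : δ₁ * (1 - z⁻¹) = δ₀ := by linear_combination e1
      refine mul_right_cancel₀ (mul_ne_zero hq hz.1) ?_
      have hzz : z⁻¹ * z = 1 := inv_mul_cancel₀ hz.1
      linear_combination h0 + z * h1 + c * hzz
    rw [hval, hc, Algebra.smul_def]
  have hvR : ∀ s ∈ S, (cst (MonoidAlgebra k M) v).ofConv s = (1 : WithConv (A →ₐ[k] MonoidAlgebra k M)).ofConv s :=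
    fun s hs => by rw [cst_apply, hvS s hs, one_apply', one_apply']; rfl
  let u' := v * u
  have hu' : cst _ u' * F₁ * (cst _ u')⁻¹ = cst _ v * F * (cst (MonoidAlgebra k M) v)⁻¹ := by
    simp only [u', F, map_mul]; group
  have hagree : ∀ s, (s ∈ S ∨ s = t) → F₂.ofConv s = (cst _ u' * F₁ * (cst _ u')⁻¹).ofConv s := by
    rw [hu']
    rintro s (hs | rfl)
    · rw [hu s hs]
      have hFs : F = 1 * F * 1 := by group
      conv_lhs => rw [show cst _ u * F₁ * (cst _ u)⁻¹ = F from rfl, hFs]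
      exact (agree_mul hS' (fun s hs => agree_mul hS' (fun s hs => (hvR s hs).symm) (fun _ _ => rfl) hs)
        (fun s hs => (inv_agree hS hvR s hs).symm) hs)
    · rw [conj_skew hS' Ω hX' hvR (inv_agree hS hvR) hGS hG, hmF, cst_apply, one_apply',
        show Coalgebra.counit (R := k) s = (1 : WithConv (A →ₐ[k] k)).ofConv s by rw [one_apply']; rfl,
        ← map_sub, hvt]
      show _ = F.ofConv s + (F₂.ofConv s - F.ofConv s)
      ring
  let S₁ : Subalgebra k A := S ⊔ Algebra.adjoin k {t}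
  have hSle : S ≤ S₁ := le_sup_left
  have htS₁ : t ∈ S₁ := (le_sup_right : _ ≤ S₁) (Algebra.subset_adjoin rfl)
  let incl : S ⊗[k] S →ₐ[k] A ⊗[k] A := Algebra.TensorProduct.map S.val S.val
  have hgen : ∀ Q : Subalgebra k A, S ≤ Q → t ∈ Q → S₁ ≤ Q := fun Q h1 h2 =>
    sup_le h1 (Algebra.adjoin_le (Set.singleton_subset_iff.2 h2))
  have hincl : ∀ z, incl z ∈ (Algebra.TensorProduct.map S₁.val S₁.val).range := fun z => by
    induction z with
    | zero => rw [map_zero]; exact zero_mem _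
    | add x y hx hy => rw [map_add]; exact add_mem hx hy
    | tmul x y => exact ⟨(⟨x, hSle x.2⟩ : S₁) ⊗ₜ[k] (⟨y, hSle y.2⟩ : S₁), rfl⟩
  have hcomul : S₁ ≤ ((Algebra.TensorProduct.map S₁.val S₁.val).range).comap (Bialgebra.comulAlgHom k A) := by
    refine hgen _ (fun s hs => ?_) ?_
    · obtain ⟨z, hz⟩ := hS' s hs
      rw [Subalgebra.mem_comap, Bialgebra.comulAlgHom_apply]
      rw [← hz]; exact hincl z
    · rw [Subalgebra.mem_comap, Bialgebra.comulAlgHom_apply]
      rw [show Coalgebra.comul (R := k) t = incl Ω + t ⊗ₜ[k] φ (el k g) + (1 : A) ⊗ₜ[k] t by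
        simp only [incl, hX']; abel]
      exact add_mem (add_mem (hincl Ω) ⟨(⟨t, htS₁⟩ : S₁) ⊗ₜ[k] (⟨_, hSle hGS⟩ : S₁), rfl⟩)
        ⟨(1 : S₁) ⊗ₜ[k] (⟨t, htS₁⟩ : S₁), rfl⟩
  have hanti : S₁ ≤ S₁.comap (HopfAlgebra.antipodeAlgHom k A) := by
    refine hgen _ (fun s hs => hSle (hS.2 s hs)) ?_
    show HopfAlgebraStruct.antipode k t ∈ S₁
    have hz : ∀ z : S ⊗[k] S, LinearMap.mul' k A ((HopfAlgebraStruct.antipode k).rTensor A (incl z)) ∈ S := fun z => by
      induction z with
      | zero => simp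
      | add a b ha hb => simp only [map_add]; exact add_mem ha hb
      | tmul a b =>
        simp only [incl, Algebra.TensorProduct.map_tmul, LinearMap.rTensor_tmul, LinearMap.mul'_apply]
        exact mul_mem (hS.2 _ a.2) b.2
    have h1 := hSle (hz Ω)
    simp only [incl, hX'] at h1
    rw [map_sub, map_sub, map_sub, map_sub, HopfAlgebra.mul_antipode_rTensor_comul_apply,
      LinearMap.rTensor_tmul, LinearMap.rTensor_tmul, LinearMap.mul'_apply, LinearMap.mul'_apply,
      HopfAlgebra.antipode_one, _root_.one_mul] at h1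
    have h2 : HopfAlgebraStruct.antipode k t * φ (el k g) ∈ S₁ := by
      have := sub_mem (sub_mem (S₁.algebraMap_mem (Coalgebra.counit (R := k) t)) htS₁) h1
      convert this using 1
      abel
    have h3 := mul_mem h2 (hSle (hle ⟨el k g⁻¹, rfl⟩ : φ (el k g⁻¹) ∈ S))
    rwa [_root_.mul_assoc, ← _root_.map_mul, el_mul, mul_inv_cancel, el_one, _root_.map_one, _root_.mul_one] at h3
  have hS₁ : SGA3.IsHopfSubalgebra k A S₁ := ⟨fun s hs => hcomul hs, fun s hs => hanti hs⟩
  have hagree₁ : S₁ ≤ AlgHom.equalizer F₂.ofConv (cst _ u' * F₁ * (cst _ u')⁻¹).ofConv :=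
    hgen _ (fun s hs => hagree s (Or.inl hs)) (hagree t (Or.inr rfl))
  refine hmax _ ⟨S₁, ⟨hS₁, hle.trans hSle, u', fun s hs => hagree₁ hs⟩, rfl⟩
    (lt_of_le_of_ne (Ideal.span_mono fun a ha => ⟨hSle ha.1, ha.2⟩) fun he => htS ?_)
  have := invAlg_eq_of_augIdealSpan hS
  rw [he, invAlg_eq_of_augIdealSpan hS₁] at this
  exact this ▸ htS₁

end Main

end Groth.Agent.HMTor29.Conj
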