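import Groth.Agent.HMTor29.Torus
import Groth.Agent.HMTor29.Conj
import Groth.Agent.AGFQuot23.FlagConj
import Groth.Agent.SGA3bLib.DiagQuot
import Groth.Agent.SGA3cLib.CentralEqBasic
import Groth.Agent.HopfLib.SpPoints
import Groth.Agent.TorusAb27.Basic
import Groth.Agent.AlgGrpLib.AxesTorus
import Groth.Agent.S3266
import Groth.Agent.S7967
import Groth.Agent.S4128

/-! # Tori of an affine connected group are conjugate into a maximal torus -/

set_option autoImplicit false
set_option linter.style.haveILetI false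
set_option backward.isDefEq.respectTransparency.types false

noncomputable section

universe u

open CategoryTheory CategoryTheory.Limits MonoidalCategory CartesianMonoidalCategory MonObj GrpObj AlgebraicGeometry
open CoactBr (sp pt)
open WithConv
open Groth.Agent.HopfQuot
open scoped TensorProduct

namespace Groth.Agent.HMTor29.MaxTorus

open AGFQuot23 (cj cst comp_cj cjIso)

variable {k : Type u} [Field k]

/-- A split torus is a torus. -/
theorem isTorus_of_split {r : ℕ} {T : Over (Spec (CommRingCat.of k))} [GrpObj T]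
    (h : Red.IsSplitTorusWith (Fin r → ℤ) T) : Red.IsTorus T := by
  obtain ⟨E⟩ := h
  refine ⟨Spec (CommRingCat.of k), 𝟙 _, inferInstance, inferInstance, fun V hV => ⟨V, hV.isCompact, by simp⟩,
    fun s => ⟨⊤, trivial, r, ?_⟩⟩
  let ω := (⊤ : (Spec (CommRingCat.of k)).Opens).ι ≫ 𝟙 (Spec (CommRingCat.of k))
  obtain ⟨cD, hcD, -⟩ := SGA3cLib.CentralEq.exists_bc_DS ω
  haveI : IsMonHom E.hom.hom.hom := E.hom.hom.isMonHom_hom
  haveI := hcD (Fin r → ℤ)
  let w : T ≅ Red.DS (Spec (CommRingCat.of k)) (Fin r → ℤ) := (Grp.forget _).mapIso E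
  haveI : IsMonHom w.hom := E.hom.hom.isMonHom_hom
  let b : Red.bc ω T ≅ Red.bc ω (Red.DS (Spec (CommRingCat.of k)) (Fin r → ℤ)) := (Over.pullback ω).mapIso w
  haveI : IsMonHom b.hom := by show IsMonHom ((Over.pullback ω).map w.hom); infer_instance
  haveI : IsMonHom (b ≪≫ cD (Fin r → ℤ)).hom := by
    show IsMonHom (b.hom ≫ (cD (Fin r → ℤ)).hom); infer_instance
  exact ⟨Grp.mkIso' (b ≪≫ cD (Fin r → ℤ))⟩

variable [IsAlgClosed k]

/-- an isomorphism with the spectrum of the group algebra of a free group of finite rank -/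
def IsFreeDiag (T : Over (Spec (CommRingCat.of k))) [GrpObj T] : Prop :=
  ∃ (N : Type u) (_ : CommGroup N) (r : ℕ) (_ : N ≃* Multiplicative (Fin r → ℤ))
    (e : spec (k := k) (MonoidAlgebra k N) ⟶ T), IsIso e ∧ IsMonHom e

theorem divisible_of_free {N : Type u} [CommGroup N] {r : ℕ} (ε : N ≃* Multiplicative (Fin r → ℤ)) :
    Conj.Divisible k N := by
  intro m hm z hz
  obtain ⟨j, hj⟩ : ∃ j, Multiplicative.toAdd (ε m) j ≠ 0 := by
    by_contra hall
    push Not at hall
    exact hm (ε.injective (by rw [map_one]; exact Multiplicative.toAdd.injective (funext hall)))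
  set n := Multiplicative.toAdd (ε m) j
  obtain ⟨w, hw⟩ := IsAlgClosed.exists_pow_nat_eq z (show 0 < n.natAbs by omega)
  have hw0 : w ≠ 0 := fun h => hz (by rw [← hw, h, zero_pow (by omega)])
  let W : kˣ := Units.mk0 w hw0
  have hkey : ∃ s : ℤ, ((W ^ (s * n) : kˣ) : k) = z := by
    rcases Int.natAbs_eq n with e | e
    · exact ⟨1, by rw [_root_.one_mul, e, zpow_natCast, Units.val_pow_eq_pow_val]; exact hw⟩
    · exact ⟨-1, by rw [neg_one_mul, e, neg_neg, zpow_natCast, Units.val_pow_eq_pow_val]; exact hw⟩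
  obtain ⟨s, hs⟩ := hkey
  refine ⟨{ toFun := fun x => ((W ^ (s * Multiplicative.toAdd (ε x) j) : kˣ) : k)
            map_one' := by simp
            map_mul' := fun x y => by
              rw [map_mul, toAdd_mul, Pi.add_apply, mul_add, zpow_add, Units.val_mul] }, hs⟩

theorem exists_free_equiv {M : Type u} [CommGroup M] [IsDomain (MonoidAlgebra k M)]
    (hfg : Algebra.FiniteType k (MonoidAlgebra k M)) : ∃ r : ℕ, Nonempty (M ≃* Multiplicative (Fin r → ℤ)) := by
  classical
  haveI : Group.FG M := MonoidAlgebra.finiteType_iff_group_fg.mp hfg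
  haveI : IsMulTorsionFree M := by
    refine IsMulTorsionFree.of_not_isOfFinOrder fun x hx hfin => ?_
    obtain ⟨n, hn, hxn⟩ := isOfFinOrder_iff_pow_eq_one.1 hfin
    have hroot : (MonoidAlgebra.single x (1 : k)) ^ n = 1 := by
      rw [MonoidAlgebra.single_pow, hxn, one_pow]; rfl
    obtain ⟨ζ, hζ⟩ : ∃ ζ : k, MonoidAlgebra.single x (1 : k) = algebraMap k (MonoidAlgebra k M) ζ := by
      have hsplit : (Polynomial.X ^ n - 1 : Polynomial k).Splits := IsAlgClosed.splits _
      have hmon : (Polynomial.X ^ n - 1 : Polynomial k).Monic := by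
        simpa using Polynomial.monic_X_pow_sub_C (1 : k) (by omega)
      have h0 : Polynomial.aeval (MonoidAlgebra.single x (1 : k)) (Polynomial.X ^ n - 1 : Polynomial k) = 0 := by
        rw [map_sub, map_pow, Polynomial.aeval_X, map_one, hroot, sub_self]
      rw [hsplit.eq_prod_roots_of_monic hmon, map_multiset_prod, Multiset.map_map] at h0
      obtain ⟨ζ, -, hζ⟩ := Multiset.mem_map.1 (Multiset.prod_eq_zero_iff.1 h0)
      refine ⟨ζ, ?_⟩
      rwa [Function.comp_apply, map_sub, Polynomial.aeval_X, Polynomial.aeval_C, sub_eq_zero] at hζ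
    have := congrArg (fun y => y.coeff x) hζ
    simp [Finsupp.single_apply, Ne.symm hx] at this
  haveI : Monoid.FG M := Group.fg_iff_monoid_fg.1 inferInstance
  haveI : Module.Finite ℤ (Additive M) :=
    Module.Finite.iff_addGroup_fg.2 (GroupFG.iff_add_fg.1 inferInstance)
  haveI : Module.Free ℤ (Additive M) := Module.free_of_finite_type_torsion_free'
  let b := Module.finBasis ℤ (Additive M)
  exact ⟨_, ⟨{
    toFun := fun m => Multiplicative.ofAdd (b.equivFun (Additive.ofMul m))
    invFun := fun f => Additive.toMul (b.equivFun.symm (Multiplicative.toAdd f))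
    left_inv := fun m => Additive.ofMul.injective (b.equivFun.symm_apply_apply _)
    right_inv := fun f => Multiplicative.toAdd.injective (b.equivFun.apply_symm_apply _)
    map_mul' := fun m m' => by simp [ofMul_mul, ofAdd_add] }⟩⟩

omit [IsAlgClosed k] in
theorem isDiag_of_span_isChar {A : Type u} [CommRing A] [HopfAlgebra k A]
    (h : Submodule.span k {a : A | IsChar k a} = ⊤) : SGA3b.IsDiag k A := by
  refine SGA3bLib.isDiag_of_span_groupLike (eq_top_iff.2 (h ▸ Submodule.span_mono fun a ha => ?_))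
  have hc : Coalgebra.comul (R := k) a = a ⊗ₜ[k] a := by
    have h2 := ha.2 (A ⊗[k] A) Algebra.TensorProduct.includeLeft Algebra.TensorProduct.includeRight
    rw [Algebra.TensorProduct.lift_includeLeft_includeRight] at h2
    simpa using h2
  refine ⟨?_, hc⟩
  have h2 := congrArg (TensorProduct.lid k A) (Coalgebra.rTensor_counit_comul (R := k) a)
  rw [hc, LinearMap.rTensor_tmul, TensorProduct.lid_tmul, TensorProduct.lid_tmul, _root_.one_smul] at h2
  have h3 : algebraMap k A (Coalgebra.counit (R := k) a) * a = 1 * a := by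
    rw [_root_.one_mul, ← Algebra.smul_def, h2]
  have h4 := ha.1.mul_right_cancel h3
  haveI : Nontrivial A := ⟨⟨0, 1, fun he => zero_ne_one (α := k) (by
    have := congrArg (Coalgebra.counit (R := k)) he
    rwa [map_zero, Bialgebra.counit_one] at this)⟩⟩
  exact (algebraMap k A).injective (h4.trans (map_one _).symm)

theorem isFreeDiag_of_isTorus (T : Over (Spec (CommRingCat.of k))) [GrpObj T] (hT : Red.IsTorus T) : IsFreeDiag T := by
  obtain ⟨A, _, _, e, he, hm, hft, hdom, hd⟩ := AlgGrpLib.TorusUnip.exists_split_hopf T hT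
  obtain ⟨M, _, ⟨ε⟩⟩ := isDiag_of_span_isChar (span_isChar hd)
  haveI := hdom
  haveI : IsDomain (MonoidAlgebra k M) := ε.toAlgEquiv.symm.toRingEquiv.toMulEquiv.isDomain _
  obtain ⟨r, ⟨εM⟩⟩ := exists_free_equiv (Algebra.FiniteType.equiv hft ε.toAlgEquiv)
  haveI := he
  haveI := hm
  let c : spec (k := k) (MonoidAlgebra k M) ⟶ spec A := specHom (ε : A →ₐc[k] MonoidAlgebra k M)
  haveI : IsIso c.left := by
    haveI : IsIso (CommRingCat.ofHom ((ε : A →ₐc[k] MonoidAlgebra k M) : A →+* MonoidAlgebra k M)) :=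
      (ConcreteCategory.isIso_iff_bijective _).2 (EquivLike.bijective ε)
    exact inferInstanceAs (IsIso (Spec.map (CommRingCat.ofHom ((ε : A →ₐc[k] MonoidAlgebra k M) : A →+* MonoidAlgebra k M))))
  haveI : IsIso c := (isIso_iff_of_reflects_iso c (Over.forget _)).1 ‹_›
  haveI : IsMonHom c := inferInstanceAs (IsMonHom ((hopfSpec (CommRingCat.of k)).map _).hom.hom)
  exact ⟨M, inferInstance, r, εM, c ≫ e, inferInstance, inferInstance⟩

theorem isTorus_spec {M : Type u} [CommGroup M] {r : ℕ} (ε : M ≃* Multiplicative (Fin r → ℤ)) :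
    Red.IsTorus (spec (k := k) (MonoidAlgebra k M)) := by
  refine isTorus_of_split (r := r) ?_
  obtain ⟨d, hd⟩ := HopfLib.SpPoints.exists_dsIso (k := k) (Fin r → ℤ)
  haveI := hd
  let f : MonoidAlgebra k (Multiplicative (Fin r → ℤ)) →ₐc[k] MonoidAlgebra k M :=
    MonoidAlgebra.mapDomainBialgHom k ε.symm.toMonoidHom
  let c : spec (k := k) (MonoidAlgebra k M) ⟶ spec (MonoidAlgebra k (Multiplicative (Fin r → ℤ))) := specHom f
  haveI : IsIso c.left := by
    haveI : IsIso (CommRingCat.ofHom (f : MonoidAlgebra k (Multiplicative (Fin r → ℤ)) →+* MonoidAlgebra k M)) :=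
      (ConcreteCategory.isIso_iff_bijective _).2 (MonoidAlgebra.mapDomainRingEquiv k ε.symm).bijective
    exact inferInstanceAs (IsIso (Spec.map (CommRingCat.ofHom (f : MonoidAlgebra k (Multiplicative (Fin r → ℤ)) →+* MonoidAlgebra k M))))
  haveI : IsIso c := (isIso_iff_of_reflects_iso c (Over.forget _)).1 ‹_›
  haveI : IsMonHom c := inferInstanceAs (IsMonHom ((hopfSpec (CommRingCat.of k)).map _).hom.hom)
  haveI : IsMonHom (asIso c ≪≫ d).hom := by show IsMonHom (c ≫ d.hom); infer_instance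
  exact ⟨Grp.mkIso' (asIso c ≪≫ d)⟩

theorem isTorus_Gm : Red.IsTorus (Red.Gm (Spec (CommRingCat.of k))) := by
  refine isTorus_of_split (r := 1) ?_
  obtain ⟨d, hd⟩ := HopfLib.SpPoints.exists_dsIso (k := k) (Fin 1 → ℤ)
  obtain ⟨d₁, hd₁⟩ := HopfLib.SpPoints.exists_dsIso (k := k) ℤ
  haveI := hd
  haveI := hd₁
  let ε : Multiplicative (Fin 1 → ℤ) ≃* Multiplicative ℤ := AddEquiv.toMultiplicative
    { Equiv.funUnique (Fin 1) ℤ with map_add' := fun _ _ => rfl }
  let f : MonoidAlgebra k (Multiplicative (Fin 1 → ℤ)) →ₐc[k] MonoidAlgebra k (Multiplicative ℤ) :=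
    MonoidAlgebra.mapDomainBialgHom k ε.toMonoidHom
  let c : spec (k := k) (MonoidAlgebra k (Multiplicative ℤ)) ⟶ spec (MonoidAlgebra k (Multiplicative (Fin 1 → ℤ))) :=
    specHom f
  haveI : IsIso c.left := by
    haveI : IsIso (CommRingCat.ofHom (f : MonoidAlgebra k (Multiplicative (Fin 1 → ℤ)) →+* MonoidAlgebra k (Multiplicative ℤ))) :=
      (ConcreteCategory.isIso_iff_bijective _).2 (MonoidAlgebra.mapDomainRingEquiv k ε).bijective
    exact inferInstanceAs (IsIso (Spec.map (CommRingCat.ofHom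
      (f : MonoidAlgebra k (Multiplicative (Fin 1 → ℤ)) →+* MonoidAlgebra k (Multiplicative ℤ)))))
  haveI : IsIso c := (isIso_iff_of_reflects_iso c (Over.forget _)).1 ‹_›
  haveI : IsMonHom c := inferInstanceAs (IsMonHom ((hopfSpec (CommRingCat.of k)).map _).hom.hom)
  haveI : IsMonHom d₁.inv := inferInstance
  let E : Red.Gm (Spec (CommRingCat.of k)) ≅ Red.DS (Spec (CommRingCat.of k)) (Fin 1 → ℤ) := d₁.symm ≪≫ asIso c ≪≫ d
  haveI : IsMonHom E.hom := by show IsMonHom (d₁.inv ≫ c ≫ d.hom); infer_instance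
  exact ⟨Grp.mkIso' E⟩

variable {G : Over (Spec (CommRingCat.of k))} [GrpObj G] [IsAffine G.left] [Smooth G.hom]

/-- in a connected solvable group every homomorphism from a torus is conjugate into one fixed torus -/
theorem exists_complement {H : Over (Spec (CommRingCat.of k))} [GrpObj H] [IsAffine H.left] [Smooth H.hom]
    [ConnectedSpace H.left] (hs : Red.IsSolvableGrp H) :
    ∃ (S : Over (Spec (CommRingCat.of k))) (_ : GrpObj S) (s : S ⟶ H) (π : H ⟶ S),
      Red.IsTorus S ∧ IsMonHom s ∧ IsMonHom π ∧ s ≫ π = 𝟙 S ∧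
      ∀ (P : Over (Spec (CommRingCat.of k))) [GrpObj P], Red.IsTorus P → ∀ (h : P ⟶ H) [IsMonHom h],
        ∃ v : 𝟙_ (Over (Spec (CommRingCat.of k))) ⟶ H,
          h = (toUnit P ≫ v) * (h ≫ π ≫ s) * (toUnit P ≫ v)⁻¹ := by
  obtain ⟨A, _, _, e, he, hem⟩ := exists_spec (k := k) H
  haveI := he
  haveI := hem
  haveI : IsIso e.left := inferInstanceAs (IsIso ((Over.forget _).map e))
  haveI : Algebra.FiniteType k A := by
    have heft : LocallyOfFiniteType (spec (k := k) A).hom := by rw [← Over.w e]; infer_instance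
    exact RingHom.finiteType_algebraMap.1 ((HasRingHomProperty.Spec_iff (P := @LocallyOfFiniteType)).1
      (show LocallyOfFiniteType (Spec.map (CommRingCat.ofHom (algebraMap k A))) from heft))
  haveI : IrreducibleSpace H.left := SGA3cLib.irreducibleSpace_of_connected H
  haveI : IsReduced H.left := AbSchLib.isReduced_of_smooth H.hom
  haveI : IsIntegral H.left := isIntegral_of_irreducibleSpace_of_isReduced _
  haveI : IsIntegral (Spec (CommRingCat.of A)) := by
    haveI : Nonempty ↥(Spec (CommRingCat.of A)) := ⟨(inv e.left) (Classical.arbitrary H.left)⟩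
    haveI hoi : IsOpenImmersion e.left := inferInstanceAs (IsOpenImmersion (asIso e.left).hom)
    exact @isIntegral_of_isOpenImmersion _ _ e.left hoi _ _
  haveI : IsDomain A := (affine_isIntegral_iff (CommRingCat.of A)).1 inferInstance
  have hconn : ∀ x : A, IsIdempotentElem x → x = 0 ∨ x = 1 := fun x hx => IsIdempotentElem.iff_eq_zero_or_one.1 hx
  obtain ⟨n, hn⟩ := hs
  haveI : IsMonHom (inv e) := inferInstanceAs (IsMonHom (asIso e).inv)
  haveI : Group.IsSolvable (WithConv (A →ₐ[k] k)) := by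
    haveI : Group.IsSolvable (sp k k ⟶ H) := ⟨⟨n, hn _⟩⟩
    let f : (sp k k ⟶ H) →* WithConv (A →ₐ[k] k) :=
      (ptSpec (k := k) (A := A) (T := k)).symm.toMonoidHom.comp
        { toFun := fun x => x ≫ inv e
          map_one' := by rw [MonObj.one_comp]
          map_mul' := fun x y => by rw [MonObj.mul_comp] }
    refine solvable_of_surjective (f := f) fun φ => ⟨ptSpec φ ≫ e, ?_⟩
    show (ptSpec (k := k)).symm ((ptSpec φ ≫ e) ≫ inv e) = φ
    rw [Category.assoc, IsIso.hom_inv_id, Category.comp_id, MulEquiv.symm_apply_apply]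
  have hT : HopfRep.IsTrigonalizable k A := S3266.result k A hconn
  obtain ⟨B, _, _, ψ, J, hJH, hψ, hBd, hJ, hU⟩ := (S7967.result k A).1 hT
  haveI := hJH
  have hBdiag : SGA3b.IsDiag k B := SGA3bLib.isDiag_of_span_groupLike hBd
  obtain ⟨r₀, hr₀⟩ := S4128.result k A B hBdiag ψ hψ J hJ hU
  obtain ⟨M, _, ⟨ε⟩⟩ := hBdiag
  let φ : MonoidAlgebra k M →ₐc[k] A := ψ.comp (ε.symm : MonoidAlgebra k M →ₐc[k] B)
  let r : A →ₐc[k] MonoidAlgebra k M := (ε : B →ₐc[k] MonoidAlgebra k M).comp r₀
  have hrφ : ∀ d, r (φ d) = d := fun d => by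
    show ε (r₀ (ψ (ε.symm d))) = d
    rw [show r₀ (ψ (ε.symm d)) = ε.symm d from DFunLike.congr_fun hr₀ _, ε.apply_symm_apply]
  have hφ : Function.Injective φ := fun x y h => by rw [← hrφ x, h, hrφ]
  have hJ' : J = Ideal.map (φ : MonoidAlgebra k M →+* A)
      (RingHom.ker (Bialgebra.counitAlgHom k (MonoidAlgebra k M))) := by
    rw [hJ]
    refine congrArg Ideal.span (Set.ext fun a => ⟨?_, ?_⟩)
    · rintro ⟨b, hb, rfl⟩
      exact ⟨ε b, (CoalgHomClass.counit_comp_apply ε b).trans hb, congrArg ψ (ε.symm_apply_apply b)⟩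
    · rintro ⟨d, hd, rfl⟩
      exact ⟨ε.symm d, (CoalgHomClass.counit_comp_apply ε.symm d).trans hd, rfl⟩
  haveI : IsDomain (MonoidAlgebra k M) :=
    Function.Injective.isDomain (φ : MonoidAlgebra k M →+* A) hφ
  obtain ⟨rk, ⟨εM⟩⟩ := exists_free_equiv (Algebra.FiniteType.of_surjective (r : A →ₐ[k] MonoidAlgebra k M)
    (fun d => ⟨φ d, hrφ d⟩))
  haveI : IsMonHom (specHom r) := inferInstanceAs (IsMonHom ((hopfSpec (CommRingCat.of k)).map _).hom.hom)
  haveI : IsMonHom (specHom φ) := inferInstanceAs (IsMonHom ((hopfSpec (CommRingCat.of k)).map _).hom.hom)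
  have hsπ : (specHom r ≫ e) ≫ inv e ≫ specHom φ = 𝟙 _ := by
    rw [Category.assoc, IsIso.hom_inv_id_assoc]
    refine Over.OverMorphism.ext ?_
    refine ((Spec.map_comp (CommRingCat.ofHom (φ : MonoidAlgebra k M →+* A))
      (CommRingCat.ofHom (r : A →+* MonoidAlgebra k M))).symm).trans ?_
    rw [← CommRingCat.ofHom_comp,
      show (r : A →+* MonoidAlgebra k M).comp (φ : MonoidAlgebra k M →+* A) = RingHom.id _ from RingHom.ext hrφ]
    exact Spec.map_id _
  refine ⟨spec (k := k) (MonoidAlgebra k M), inferInstance, specHom r ≫ e, inv e ≫ specHom φ, isTorus_spec εM,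
    inferInstance, inferInstance, hsπ, fun P _ hP h _ => ?_⟩
  obtain ⟨N, _, rP, εN, eP, heP, hePm⟩ := isFreeDiag_of_isTorus P hP
  haveI := heP
  haveI := hePm
  obtain ⟨f₂, hf₂⟩ := exists_specHom (eP ≫ h ≫ inv e)
  let f₁ : A →ₐc[k] MonoidAlgebra k N := (f₂.comp φ).comp r
  obtain ⟨u, hu⟩ := Conj.exists_conj φ hφ J hJ' hU (divisible_of_free εN) f₁ f₂ (fun d => by
    show f₂ (φ (r (φ d))) = f₂ (φ d)
    rw [hrφ])
  refine ⟨uI ≫ ptSpec u ≫ e, ?_⟩
  have key := congrArg (ptSpec (k := k) (A := A) (T := MonoidAlgebra k N)) hu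
  rw [map_mul, map_mul, map_inv] at key
  have e2 : ptSpec (k := k) (toConv (f₂ : A →ₐ[k] MonoidAlgebra k N)) = eP ≫ h ≫ inv e := hf₂
  have e1 : ptSpec (k := k) (toConv (f₁ : A →ₐ[k] MonoidAlgebra k N)) =
      eP ≫ (h ≫ inv e ≫ specHom φ ≫ specHom r) := by
    have h12 : specHom f₁ = specHom f₂ ≫ specHom φ ≫ specHom r := by
      refine Over.OverMorphism.ext ?_
      refine Eq.trans ?_ (congrArg (Spec.map (CommRingCat.ofHom (f₂ : A →+* MonoidAlgebra k N)) ≫ ·)
        (Spec.map_comp (CommRingCat.ofHom (r : A →+* MonoidAlgebra k M)) (CommRingCat.ofHom (φ : MonoidAlgebra k M →+* A))))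
      exact Spec.map_comp (CommRingCat.ofHom (r : A →+* MonoidAlgebra k M) ≫ CommRingCat.ofHom (φ : MonoidAlgebra k M →+* A))
        (CommRingCat.ofHom (f₂ : A →+* MonoidAlgebra k N))
    rw [show eP ≫ h ≫ inv e ≫ specHom φ ≫ specHom r = (eP ≫ h ≫ inv e) ≫ specHom φ ≫ specHom r by
      simp only [Category.assoc], ← hf₂, ← h12]
    rfl
  have e0 : ptSpec (k := k) (Conj.cst (MonoidAlgebra k N) u) = eP ≫ toUnit P ≫ uI ≫ ptSpec u := by
    have hc : ptSpec (k := k) (Conj.cst (MonoidAlgebra k N) u) =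
        pt (Algebra.ofId k (MonoidAlgebra k N)) ≫ ptSpec u := by
      refine Over.OverMorphism.ext ?_
      show Spec.map _ = Spec.map _ ≫ Spec.map _
      rw [← Spec.map_comp]
      rfl
    rw [hc, ← Category.assoc eP, ← Category.assoc (eP ≫ toUnit P)]
    exact congrArg (· ≫ _) (pt_self _ _)
  rw [e2, e1, e0, ← GrpObj.comp_inv, ← MonObj.comp_mul, ← MonObj.comp_mul, cancel_epi] at key
  rw [← cancel_mono (inv e)]
  rw [key, MonObj.mul_comp, MonObj.mul_comp, GrpObj.inv_comp]
  simp only [Category.assoc, IsIso.hom_inv_id, Category.comp_id, IsIso.hom_inv_id_assoc]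

/-- homomorphisms from connected solvable groups are conjugate into a subgroup with proper quotient -/
theorem exists_factor {P H X : Over (Spec (CommRingCat.of k))} [GrpObj P] [GrpObj H] (i : P ⟶ G) [IsMonHom i]
    [IsAffine P.left] [Smooth P.hom] [ConnectedSpace P.left]
    [Group.IsSolvable (𝟙_ (Over (Spec (CommRingCat.of k))) ⟶ P)] {iH : H ⟶ G}
    {a : AlgGrp.Action G X} {o : 𝟙_ (Over (Spec (CommRingCat.of k))) ⟶ X} (hX : AGF.IsQuotient iH X a o)
    (hp : IsProper X.hom) :
    ∃ (g : 𝟙_ (Over (Spec (CommRingCat.of k))) ⟶ G) (h : P ⟶ H), h ≫ iH = i ≫ cj g := by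
  obtain ⟨hLX, hflat, hsur, hpb⟩ := hX
  haveI := hp; haveI := hsur
  haveI : Nonempty X.left := ⟨o.left (IsLocalRing.closedPoint k)⟩
  obtain ⟨x, hx⟩ := AlgGrpLib.BorelFixed.exists_isFixedPt P X (AGFQuot23.restrictAction a i)
  obtain ⟨g, rfl⟩ := AGFQuot23.exists_ratPoint_lift (a.orbitMap o) x
  let gB : P ⟶ G := toUnit P ≫ g
  have hfix : gB ≫ a.orbitMap o = (i * gB) ≫ a.orbitMap o := by
    have h := hx P (𝟙 P)
    rw [AGFQuot23.mul_comp_orbitMap, Category.assoc]
    refine h.symm.trans ?_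
    show lift (𝟙 P) (toUnit P ≫ g ≫ a.orbitMap o) ≫ (i ▷ X) ≫ a.act = _
    rw [lift_whiskerRight_assoc, Category.id_comp]
  obtain ⟨t, ht₁, ht₂⟩ := hpb.exists_lift _ _ hfix
  refine ⟨g, t ≫ snd G H, ?_⟩
  rw [RedQuotLib.act_eq, ht₁] at ht₂
  rw [comp_cj, _root_.mul_assoc, ← ht₂, inv_mul_cancel_left]

/-- every homomorphism from a torus is conjugate into one fixed torus -/
theorem exists_universal [ConnectedSpace G.left] :
    ∃ (S : Over (Spec (CommRingCat.of k))) (_ : GrpObj S) (j : S ⟶ G),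
      Red.IsTorus S ∧ IsMonHom j ∧ Mono j ∧
      ∀ (P : Over (Spec (CommRingCat.of k))) [GrpObj P], Red.IsTorus P → ∀ (f : P ⟶ G) [IsMonHom f],
        ∃ (g : 𝟙_ (Over (Spec (CommRingCat.of k))) ⟶ G) (p : P ⟶ S), IsMonHom p ∧ f = p ≫ j ≫ cj g := by
  obtain ⟨H, _, iH, hiH, hcl, hsm, hconn, hsolv, X, a, o, hX, hp⟩ := AGFQuot23.hasProperQuot G
  haveI := hiH; haveI := hcl; haveI := hsm; haveI := hconn
  haveI : IsAffine H.left := isAffine_of_isAffineHom iH.left
  haveI : Mono iH := by
    haveI : Mono ((Over.forget _).map iH) := inferInstanceAs (Mono iH.left)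
    exact (Over.forget _).mono_of_mono_map ‹_›
  obtain ⟨S, _, s, π, hS, hs, hπ, hsπ, huniv⟩ := exists_complement hsolv
  haveI := hs; haveI := hπ
  haveI : Mono s := (SplitMono.mk π hsπ).mono
  refine ⟨S, inferInstance, s ≫ iH, hS, inferInstance, mono_comp _ _, fun P _ hP f _ => ?_⟩
  obtain ⟨N, _, rP, εN, eP, heP, hePm⟩ := isFreeDiag_of_isTorus P hP
  haveI := heP
  haveI : IsIso eP.left := inferInstanceAs (IsIso ((Over.forget _).map eP))
  haveI : IsDomain (MonoidAlgebra k (Multiplicative (Fin rP → ℤ))) := NoZeroDivisors.to_isDomain _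
  haveI : IsDomain (MonoidAlgebra k N) := (MonoidAlgebra.mapDomainRingEquiv k εN).toMulEquiv.isDomain _
  haveI : IsAffine (spec (k := k) (MonoidAlgebra k N)).left := inferInstanceAs (IsAffine (Spec (CommRingCat.of (MonoidAlgebra k N))))
  haveI : IsAffine P.left := IsAffine.of_isIso (inv eP.left)
  haveI : ConnectedSpace P.left :=
    haveI : ConnectedSpace (spec (k := k) (MonoidAlgebra k N)).left :=
      inferInstanceAs (ConnectedSpace (PrimeSpectrum (MonoidAlgebra k N)))
    eP.left.homeomorph.surjective.connectedSpace eP.left.continuous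
  haveI : Smooth P.hom := AlgGrpLib.AxesTorus.smooth_of_isTorus hP
  haveI : Group.IsSolvable (𝟙_ (Over (Spec (CommRingCat.of k))) ⟶ P) :=
    isSolvable_of_comm fun x y => SGA3cLib.torus_mul_comm hP x y
  obtain ⟨g, h, hh⟩ := exists_factor f hX hp
  haveI : IsMonHom (h ≫ iH) := by rw [hh]; infer_instance
  haveI : IsMonHom h := by
    constructor
    · rw [← cancel_mono iH, Category.assoc, IsMonHom.one_hom (h ≫ iH), IsMonHom.one_hom iH]
    · rw [← cancel_mono iH, Category.assoc, Category.assoc, IsMonHom.mul_hom (h ≫ iH), IsMonHom.mul_hom iH,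
        ← MonoidalCategory.tensorHom_comp_tensorHom, Category.assoc]
  obtain ⟨v, hv⟩ := huniv P hP h
  refine ⟨(v ≫ iH)⁻¹ * g⁻¹, h ≫ π, inferInstance, ?_⟩
  have hf : f = (h ≫ iH) ≫ cj g⁻¹ := by
    rw [hh, Category.assoc, AGFQuot23.cj_comp, mul_inv_cancel, AGFQuot23.cj_one, Category.comp_id]
  have hv' : h ≫ iH = ((h ≫ π) ≫ s ≫ iH) ≫ cj (v ≫ iH)⁻¹ := by
    rw [comp_cj]
    conv_lhs => rw [hv]
    simp only [cst, MonObj.mul_comp, GrpObj.inv_comp, GrpObj.comp_inv, _root_.inv_inv, Category.assoc]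
  rw [hf, hv', ← AGFQuot23.cj_comp]
  simp only [Category.assoc]

/-- every homomorphism from a torus is conjugate into any maximal torus -/
theorem exists_conj_into {T : Over (Spec (CommRingCat.of k))} [GrpObj T] [ConnectedSpace G.left] {iT : T ⟶ G}
    (hT : AGF.IsMaxTorus iT) (P : Over (Spec (CommRingCat.of k))) [GrpObj P] (hP : Red.IsTorus P) (f : P ⟶ G)
    [IsMonHom f] :
    ∃ (g : 𝟙_ (Over (Spec (CommRingCat.of k))) ⟶ G) (p : P ⟶ T), IsMonHom p ∧ f = p ≫ iT ≫ cj g := by
  obtain ⟨hi, hmono, hTt, hmax⟩ := hT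
  haveI := hi
  obtain ⟨S, _, j, hS, hj, hjm, huniv⟩ := exists_universal (G := G)
  haveI := hj; haveI := hjm
  obtain ⟨gT, pT, hpT, hiT⟩ := huniv T hTt iT
  haveI := hpT
  haveI : Mono (cj gT) := inferInstance
  haveI : IsIso pT := hmax S (j ≫ cj gT) pT hS hiT.symm
  haveI : IsMonHom (inv pT) := inferInstanceAs (IsMonHom (asIso pT).inv)
  obtain ⟨g, p, hp, hf⟩ := huniv P hP f
  haveI := hp
  refine ⟨gT⁻¹ * g, p ≫ inv pT, inferInstance, ?_⟩
  rw [hf, hiT]
  simp only [Category.assoc, IsIso.inv_hom_id_assoc]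
  rw [AGFQuot23.cj_comp, mul_inv_cancel_left]

theorem isIso_geomPt (p : Spec (CommRingCat.of k)) : IsIso (Red.geomPt p) := by
    haveI : Surjective ((Spec (CommRingCat.of k)).fromSpecResidueField p) :=
      ⟨fun z ↦ ⟨IsLocalRing.closedPoint _, Subsingleton.elim _ _⟩⟩
    haveI : IsClosedImmersion ((Spec (CommRingCat.of k)).fromSpecResidueField p) :=
      isClosed_singleton_iff_isClosedImmersion.1 Set.subsingleton_of_subsingleton.isClosed
    haveI : IsIso ((Spec (CommRingCat.of k)).fromSpecResidueField p) :=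
      isIso_of_isClosedImmersion_of_surjective _
    let P := (Spec (CommRingCat.of k)).residueField p
    haveI : IsAlgClosed P := by
      haveI : IsIso ((Spec (CommRingCat.of k)).fromSpecResidueField p).appTop :=
        inferInstanceAs (IsIso (Scheme.Γ.map ((Spec (CommRingCat.of k)).fromSpecResidueField p).op))
      let e : k ≃+* P := ((Scheme.ΓSpecIso (CommRingCat.of k)).symm ≪≫
        asIso ((Spec (CommRingCat.of k)).fromSpecResidueField p).appTop ≪≫ Scheme.ΓSpecIso P).commRingCatIsoToRingEquiv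
      exact IsAlgClosed.of_ringEquiv k P e
    haveI : IsIso (CommRingCat.ofHom (algebraMap P (AlgebraicClosure P))) :=
      (ConcreteCategory.isIso_iff_bijective _).2 (IsAlgClosed.algebraMap_bijective_of_isIntegral)
    infer_instance

/-- the geometric maximality over an algebraically closed field is maximality -/
theorem isMaxTorus {T G : Over (Spec (CommRingCat.of k))} [GrpObj T] [GrpObj G] {i : T ⟶ G}
    (hi : Red.IsMaximalTorus i) : AGF.IsMaxTorus i := by
  obtain ⟨hhom, hmono, hT, hmax⟩ := hi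
  refine ⟨hhom, hmono, hT, fun T' _ j _ _ f hT' hfj => ?_⟩
  let p : (Spec (CommRingCat.of k) : Scheme.{u}) := IsLocalRing.closedPoint k
  haveI hgp : IsIso (Red.geomPt p) := isIso_geomPt p
  let F := Over.pullback (Red.geomPt p)
  haveI : F.IsRightAdjoint := (Over.mapPullbackAdj _).isRightAdjoint
  haveI : IsMonHom (F.map j) := inferInstanceAs (IsMonHom ((Over.pullback _).map j))
  haveI : Mono (F.map j) := inferInstance
  have h := hmax p (Red.geomFibre p T') (F.map j) (F.map f) (TorusAb27.isTorus_bc _ T' hT') (by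
    rw [← Functor.map_comp, hfj])
  haveI : IsIso (F.map f).left := inferInstanceAs (IsIso ((Over.forget _).map (F.map f)))
  haveI : IsIso (pullback.fst T.hom (Red.geomPt p)) := inferInstance
  haveI : IsIso (pullback.fst T'.hom (Red.geomPt p)) := inferInstance
  have hsq : (F.map f).left ≫ pullback.fst T'.hom (Red.geomPt p) = pullback.fst T.hom (Red.geomPt p) ≫ f.left := by
    exact pullback.lift_fst _ _ _
  haveI : IsIso (pullback.fst T.hom (Red.geomPt p) ≫ f.left) := by rw [← hsq]; infer_instance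
  haveI : IsIso f.left := IsIso.of_isIso_comp_left (pullback.fst T.hom (Red.geomPt p)) _
  exact (isIso_iff_of_reflects_iso f (Over.forget _)).1 ‹_›

theorem connectedSpace_of_isReductive (G : Over (Spec (CommRingCat.of k))) [GrpObj G] (hG : Red.IsReductive G) :
    ConnectedSpace G.left := by
  let p : (Spec (CommRingCat.of k) : Scheme.{u}) := IsLocalRing.closedPoint k
  haveI := isIso_geomPt p
  haveI : ConnectedSpace ↥(pullback G.hom (Red.geomPt p)) := (hG.2.2 p).2.2.1
  haveI : IsIso (pullback.fst G.hom (Red.geomPt p)) := inferInstance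
  exact (pullback.fst G.hom (Red.geomPt p)).homeomorph.surjective.connectedSpace
    (pullback.fst G.hom (Red.geomPt p)).continuous

end Groth.Agent.HMTor29.MaxTorus
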