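import Groth.Agent.HMTor29.Main
import Groth.Agent.SGA3cLib.TorusBasic
import Mathlib.LinearAlgebra.FreeModule.PID
import Mathlib.Analysis.Real.Sqrt
import Mathlib.LinearAlgebra.Matrix.BilinearForm

/-! # Additive functions on the one-parameter subgroups of a torus are bounded by any norm -/

set_option autoImplicit false
set_option linter.style.haveILetI false
set_option backward.isDefEq.respectTransparency.types false

noncomputable section

universe u

open CategoryTheory CategoryTheory.Limits MonoidalCategory CartesianMonoidalCategory MonObj AlgebraicGeometry Opposite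
open CoactBr (sp pt)

namespace Groth.Agent.HMTor29

/-- An additive functional on a lattice is bounded by a positive rational quadratic form. -/
theorem exists_bound_of_lattice {H : Type*} [AddCommGroup H] [Module.Free ℤ H] [Module.Finite ℤ H]
    (B : H → H → ℚ) (hadd : ∀ x y z, B (x + y) z = B x z + B y z) (hsymm : ∀ x y, B x y = B y x)
    (hpos : ∀ x, x ≠ 0 → 0 < B x x) (F : H →+ ℚ) :
    ∃ C : ℝ, 0 ≤ C ∧ ∀ h, |(F h : ℝ)| ≤ C * Real.sqrt (B h h : ℝ) := by
  classical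
  let e := Module.finBasis ℤ H
  let d := Module.finrank ℤ H
  have haddr : ∀ z x y, B z (x + y) = B z x + B z y := fun z x y => by
    rw [hsymm, hadd, hsymm x, hsymm y]
  let BL : H → (H →+ ℚ) := fun x => AddMonoidHom.mk' (B x) (haddr x)
  let BR : H → (H →+ ℚ) := fun y => AddMonoidHom.mk' (fun x => B x y) (fun x x' => hadd x x' y)
  let Q : (Fin d → ℚ) →ₗ[ℚ] (Fin d → ℚ) →ₗ[ℚ] ℚ :=
    Matrix.toLinearMap₂' ℚ (Matrix.of fun i j => B (e i) (e j))
  let emb : H → (Fin d → ℚ) := fun h i => ((e.repr h i : ℤ) : ℚ)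
  have hsum : ∀ (φ : H →+ ℚ) (h : H), φ h = ∑ i, emb h i * φ (e i) := fun φ h => by
    conv_lhs => rw [← e.sum_repr h]
    rw [map_sum]
    exact Finset.sum_congr rfl fun i _ => by rw [map_zsmul, zsmul_eq_mul]
  have hQ : ∀ x y, Q (emb x) (emb y) = B x y := by
    intro x y
    rw [show B x y = BR y x from rfl, hsum (BR y) x]
    simp only [Q, Matrix.toLinearMap₂'_apply, Matrix.of_apply, smul_eq_mul]
    refine Finset.sum_congr rfl fun i _ => ?_
    rw [show BR y (e i) = BL (e i) y from rfl, hsum (BL (e i)) y, Finset.mul_sum]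
    rfl
  have hQpos : ∀ v : Fin d → ℚ, v ≠ 0 → 0 < Q v v := by
    intro v hv
    obtain ⟨b, hb⟩ := IsLocalization.exist_integer_multiples (nonZeroDivisors ℤ) (Finset.univ : Finset (Fin d)) v
    choose w hw using fun i => hb i (Finset.mem_univ i)
    let h : H := ∑ i, w i • e i
    have hh : emb h = ((b : ℤ) : ℚ) • v := by
      funext i
      have hw' : ((w i : ℤ) : ℚ) = ((b : ℤ) : ℚ) * v i := by simpa using hw i
      have hr : e.repr h i = w i := by
        simp only [h, map_sum, map_zsmul, Module.Basis.repr_self, Finsupp.finsetSum_apply, Finsupp.smul_apply,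
          Finsupp.single_apply, smul_eq_mul, mul_ite, mul_one, mul_zero, Finset.sum_ite_eq', Finset.mem_univ, if_true]
        exact mul_one _
      simp only [emb, hr, Pi.smul_apply, smul_eq_mul, hw']
    have hb0 : ((b : ℤ) : ℚ) ≠ 0 := by exact_mod_cast nonZeroDivisors.coe_ne_zero b
    have hne : h ≠ 0 := fun h0 => hv ((smul_eq_zero.1 (hh.symm.trans (by rw [h0]; funext i; simp [emb]))).resolve_left hb0)
    have := hpos h hne
    rw [← hQ, hh] at this
    simp only [map_smul, LinearMap.smul_apply, smul_eq_mul] at this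
    nlinarith [sq_nonneg ((b : ℤ) : ℚ)]
  have hQnn : ∀ v, 0 ≤ Q v v := fun v => by
    by_cases hv : v = 0
    · subst hv; simp
    · exact (hQpos v hv).le
  have hinj : Function.Injective Q := (injective_iff_map_eq_zero Q).2 fun v hv => by
    by_contra hne
    have := hQpos v hne
    rw [hv] at this
    simp at this
  obtain ⟨u, hu⟩ := (LinearMap.injective_iff_surjective_of_finrank_eq_finrank
    (show Module.finrank ℚ (Fin d → ℚ) = Module.finrank ℚ ((Fin d → ℚ) →ₗ[ℚ] ℚ) by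
      simp [Module.finrank_linearMap])).1 hinj (∑ i, F (e i) • (LinearMap.proj i : (Fin d → ℚ) →ₗ[ℚ] ℚ))
  refine ⟨Real.sqrt (Q u u : ℝ), Real.sqrt_nonneg _, fun h => ?_⟩
  have hF : F h = Q u (emb h) := by
    rw [hu, hsum F h, LinearMap.sum_apply]
    exact Finset.sum_congr rfl fun i _ => by simp [mul_comm]
  have hsymmQ : ∀ v w, Q v w = Q w v := fun v w => by
    simp only [Q, Matrix.toLinearMap₂'_apply, Matrix.of_apply, smul_eq_mul]
    rw [Finset.sum_comm]
    refine Finset.sum_congr rfl fun i _ => Finset.sum_congr rfl fun j _ => ?_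
    rw [hsymm (e j) (e i)]; ring
  have hcs : (Q u (emb h)) ^ 2 ≤ Q u u * B h h := by
    rw [← hQ h h]
    by_cases hu0 : u = 0
    · subst hu0; simp
    have hp := hQpos u hu0
    have h2 := hQnn (Q u (emb h) • u - Q u u • emb h)
    simp only [map_sub, map_smul, LinearMap.sub_apply, LinearMap.smul_apply, smul_eq_mul, hsymmQ (emb h) u] at h2
    nlinarith
  rw [← Real.sqrt_mul (by exact_mod_cast hQnn u), ← Real.sqrt_sq_eq_abs, hF]
  exact Real.sqrt_le_sqrt (by exact_mod_cast hcs)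

variable {k : Type u} [Field k] [IsAlgClosed k] {T : Over (Spec (CommRingCat.of k))} [GrpObj T]

theorem isMonHom_mul (hT : Red.IsTorus T) {W : Over (Spec (CommRingCat.of k))} [GrpObj W] (p q : W ⟶ T)
    [IsMonHom p] [IsMonHom q] : IsMonHom (p * q) := by
  have h1 : (η[T] : 𝟙_ (Over (Spec (CommRingCat.of k))) ⟶ T) = 1 := by
    rw [Hom.one_def, toUnit_unique (toUnit _) (𝟙 _), Category.id_comp]
  have hm : ∀ f : W ⟶ T, (f ⊗ₘ f) ≫ μ[T] = (fst W W ≫ f) * (snd W W ≫ f) := fun f => by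
    rw [Hom.mul_def]
    congr 1
  constructor
  · rw [MonObj.comp_mul, IsMonHom.one_hom, IsMonHom.one_hom, h1, _root_.one_mul]
  · rw [MonObj.comp_mul, IsMonHom.mul_hom, IsMonHom.mul_hom, hm, hm, hm, MonObj.comp_mul, MonObj.comp_mul]
    exact Commute.mul_mul_mul_comm (SGA3cLib.torus_mul_comm hT (snd W W ≫ p) (fst W W ≫ q)) _ _

theorem isMonHom_inv (hT : Red.IsTorus T) {W : Over (Spec (CommRingCat.of k))} [GrpObj W] (p : W ⟶ T) [IsMonHom p] :
    IsMonHom p⁻¹ := by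
  have h1 : (η[T] : 𝟙_ (Over (Spec (CommRingCat.of k))) ⟶ T) = 1 := by
    rw [Hom.one_def, toUnit_unique (toUnit _) (𝟙 _), Category.id_comp]
  have hm : ∀ f : W ⟶ T, (f ⊗ₘ f) ≫ μ[T] = (fst W W ≫ f) * (snd W W ≫ f) := fun f => by
    rw [Hom.mul_def]
    congr 1
  constructor
  · rw [GrpObj.comp_inv, IsMonHom.one_hom, h1, inv_one]
  · rw [GrpObj.comp_inv, IsMonHom.mul_hom, hm, hm, GrpObj.comp_inv, GrpObj.comp_inv, mul_inv_rev]
    exact SGA3cLib.torus_mul_comm hT _ _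

theorem isMonHom_one {W : Over (Spec (CommRingCat.of k))} [GrpObj W] : IsMonHom (1 : W ⟶ T) := by
  have h1 : (η[T] : 𝟙_ (Over (Spec (CommRingCat.of k))) ⟶ T) = 1 := by
    rw [Hom.one_def, toUnit_unique (toUnit _) (𝟙 _), Category.id_comp]
  have hm : ((1 : W ⟶ T) ⊗ₘ (1 : W ⟶ T)) ≫ μ[T] = 1 := by
    rw [show ((1 : W ⟶ T) ⊗ₘ (1 : W ⟶ T)) ≫ μ[T] = (fst W W ≫ (1 : W ⟶ T)) * (snd W W ≫ (1 : W ⟶ T)) by
      rw [Hom.mul_def]; congr 1, MonObj.comp_one, MonObj.comp_one, _root_.one_mul]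
  exact ⟨by rw [MonObj.comp_one, h1], by rw [MonObj.comp_one, hm]⟩

variable (D : TorusData T)

include D in
/-- finitely many characters separating the one-parameter subgroups -/
theorem exists_separating :
    ∃ S : Finset D.A, (∀ χ ∈ S, IsChar k χ) ∧ ∀ (hS : ∀ χ ∈ S, IsChar k χ)
      (l l' : Red.Gm (Spec (CommRingCat.of k)) ⟶ T) [IsMonHom l] [IsMonHom l'],
        (∀ χ (hχ : χ ∈ S), pairing (D.chr (hS χ hχ)) l = pairing (D.chr (hS χ hχ)) l') → l = l' := by
  classical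
  obtain ⟨g, hg⟩ := D.ft.out
  have hmem : ∀ x : D.A, ∃ S : Finset D.A, (↑S : Set D.A) ⊆ {a | IsChar k a} ∧ x ∈ Submodule.span k (↑S : Set D.A) :=
    fun x => Submodule.mem_span_finite_of_mem_span (show x ∈ Submodule.span k {a : D.A | IsChar k a} from D.span ▸ trivial)
  choose Sx hSx hx using hmem
  refine ⟨g.biUnion Sx, fun χ hχ => ?_, fun hS l l' _ _ heq => ?_⟩
  · obtain ⟨x, -, h⟩ := Finset.mem_biUnion.1 hχ
    exact hSx x h
  have hgen : Algebra.adjoin k (↑(g.biUnion Sx) : Set D.A) = ⊤ := by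
    rw [eq_top_iff, ← hg]
    refine Algebra.adjoin_le fun x hxg => ?_
    exact Submodule.span_le.2 (fun y hy => Algebra.subset_adjoin (Finset.coe_subset.2 (Finset.subset_biUnion_of_mem Sx hxg) hy))
      (hx x) |> fun h => (show x ∈ Subalgebra.toSubmodule (Algebra.adjoin k (↑(g.biUnion Sx) : Set D.A)) from h)
  have hval : ∀ (m : Red.Gm (Spec (CommRingCat.of k)) ⟶ T) [IsMonHom m] (χ : D.A) (hχ : χ ∈ g.biUnion Sx),
      D.tv χ (gpt (tU (k := k)) ≫ m) = LaurentPolynomial.T (pairing (D.chr (hS χ hχ)) m) := by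
    intro m _ χ hχ
    refine laurent_ext fun z => ?_
    rw [← D.tv_comp, ← Category.assoc, lev_gpt, lev_T]
    exact pairing_spec (χ := D.chr (hS χ hχ)) (D.exists_exponent (hS χ hχ) m) z
  obtain ⟨s, hs⟩ := D.exists_pt (gpt (tU (k := k)) ≫ l)
  obtain ⟨s', hs'⟩ := D.exists_pt (gpt (tU (k := k)) ≫ l')
  have hss : s = s' := AlgHom.ext_of_adjoin_eq_top hgen fun χ hχ => by
    rw [← D.tv_pt χ s, ← D.tv_pt χ s', hs, hs', hval l χ hχ, hval l' χ hχ, heq χ hχ]
  have h := congrArg (toL (𝟙 (Red.Gm (Spec (CommRingCat.of k)))) ≫ ·) (hs.symm.trans ((by rw [hss]) : _ = _) |>.trans hs')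
  simp only [← Category.assoc, toL_gpt, Category.id_comp] at h
  exact h

include D in
/-- additive functions on one-parameter subgroups are bounded by the norm of a positive form -/
theorem exists_bound (hT : Red.IsTorus T)
    (b : (Red.Gm (Spec (CommRingCat.of k)) ⟶ T) → (Red.Gm (Spec (CommRingCat.of k)) ⟶ T) → ℚ)
    (hb_add : ∀ (l₁ l₂ l₃ : Red.Gm (Spec (CommRingCat.of k)) ⟶ T) [IsMonHom l₁] [IsMonHom l₂] [IsMonHom l₃],
      b (l₁ * l₂) l₃ = b l₁ l₃ + b l₂ l₃)
    (hb_symm : ∀ (l₁ l₂ : Red.Gm (Spec (CommRingCat.of k)) ⟶ T) [IsMonHom l₁] [IsMonHom l₂], b l₁ l₂ = b l₂ l₁)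
    (hb_pos : ∀ (l : Red.Gm (Spec (CommRingCat.of k)) ⟶ T) [IsMonHom l], l ≠ 1 → 0 < b l l)
    (f : (Red.Gm (Spec (CommRingCat.of k)) ⟶ T) → ℚ)
    (hf : ∀ (l₁ l₂ : Red.Gm (Spec (CommRingCat.of k)) ⟶ T) [IsMonHom l₁] [IsMonHom l₂],
      f (l₁ * l₂) = f l₁ + f l₂) :
    ∃ C : ℝ, 0 ≤ C ∧ ∀ (l : Red.Gm (Spec (CommRingCat.of k)) ⟶ T) [IsMonHom l],
      |(f l : ℝ)| ≤ C * Real.sqrt (b l l : ℝ) := by
  classical
  obtain ⟨S, hS, hsep⟩ := exists_separating D
  replace hsep := hsep hS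
  let π : (Red.Gm (Spec (CommRingCat.of k)) ⟶ T) → ({χ // χ ∈ S} → ℤ) :=
    fun l χ => pairing (D.chr (hS χ.1 χ.2)) l
  have hπ : ∀ (l₁ l₂ : Red.Gm (Spec (CommRingCat.of k)) ⟶ T) [IsMonHom l₁] [IsMonHom l₂],
      π (l₁ * l₂) = π l₁ + π l₂ := fun l₁ l₂ _ _ => funext fun χ =>
    pairing_mul (χ := D.chr (hS χ.1 χ.2)) (fun l _ => D.exists_exponent (hS χ.1 χ.2) l) l₁ l₂
  haveI h1 : IsMonHom (1 : Red.Gm (Spec (CommRingCat.of k)) ⟶ T) :=
    isMonHom_one (k := k) (T := T) (W := Red.Gm (Spec (CommRingCat.of k)))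
  have hπ1 : π 1 = 0 := by
    have := hπ 1 1
    rw [_root_.one_mul] at this
    exact add_right_cancel (this.symm.trans (zero_add _).symm)
  let H : AddSubgroup ({χ // χ ∈ S} → ℤ) :=
    { carrier := {v | ∃ (l : Red.Gm (Spec (CommRingCat.of k)) ⟶ T) (_ : IsMonHom l), π l = v}
      zero_mem' := ⟨1, h1, hπ1⟩
      add_mem' := by
        rintro _ _ ⟨l₁, h₁, rfl⟩ ⟨l₂, h₂, rfl⟩
        exact ⟨l₁ * l₂, isMonHom_mul hT l₁ l₂, hπ l₁ l₂⟩
      neg_mem' := by
        rintro _ ⟨l, hl, rfl⟩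
        haveI := isMonHom_inv hT l
        refine ⟨l⁻¹, inferInstance, ?_⟩
        have := hπ l⁻¹ l
        rw [inv_mul_cancel, hπ1] at this
        exact eq_neg_of_add_eq_zero_left this.symm }
  let H' : Submodule ℤ ({χ // χ ∈ S} → ℤ) := AddSubgroup.toIntSubmodule H
  haveI : Module.Free ℤ H' := Module.Free.of_basis (Submodule.basisOfPid (Pi.basisFun ℤ {χ // χ ∈ S}) H').2
  haveI : Module.Finite ℤ H' := Module.Finite.of_basis (Submodule.basisOfPid (Pi.basisFun ℤ {χ // χ ∈ S}) H').2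
  have hlift : ∀ h : H', ∃ (l : Red.Gm (Spec (CommRingCat.of k)) ⟶ T) (_ : IsMonHom l), π l = (h : {χ // χ ∈ S} → ℤ) :=
    fun h => h.2
  choose lf hlf hlfπ using hlift
  haveI := hlf
  have hinj : ∀ (l : Red.Gm (Spec (CommRingCat.of k)) ⟶ T) [IsMonHom l] (h : H'), π l = (h : {χ // χ ∈ S} → ℤ) →
      lf h = l := fun l _ h e => hsep (lf h) l fun χ hχ => congrFun ((hlfπ h).trans e.symm) ⟨χ, hχ⟩
  have hadd : ∀ x y : H', lf (x + y) = lf x * lf y := fun x y => by
    haveI := isMonHom_mul hT (lf x) (lf y)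
    exact hinj _ _ (by rw [hπ, hlfπ, hlfπ]; rfl)
  obtain ⟨C, hC, hbd⟩ := exists_bound_of_lattice (H := H') (fun x y => b (lf x) (lf y))
    (fun x y z => by simp only [hadd, hb_add]) (fun x y => hb_symm _ _)
    (fun x hx => hb_pos _ fun h0 => hx (Subtype.ext ((hlfπ x).symm.trans ((congrArg π h0).trans hπ1))))
    (AddMonoidHom.mk' (fun x => f (lf x)) (fun x y => by simp only [hadd, hf]))
  refine ⟨C, hC, fun l hl => ?_⟩
  let h : H' := ⟨π l, l, hl, rfl⟩
  have e : lf h = l := hinj l h rfl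
  have := hbd h
  simp only [AddMonoidHom.mk'_apply, e] at this
  exact this

end Groth.Agent.HMTor29
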