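import Groth.Agent.HMTor29.Points

/-! # Fibre coordinates at ring-valued points, the cocycle of a lifted action -/

set_option autoImplicit false
set_option linter.style.haveILetI false
set_option backward.isDefEq.respectTransparency.types false

noncomputable section

universe u

open CategoryTheory CategoryTheory.Limits MonoidalCategory CartesianMonoidalCategory MonObj AlgebraicGeometry Opposite
open CoactBr (sp pt)

namespace Groth.Agent.HMTor29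

open HMConj (eval_congr eval_comp act_mul act_one lift_act_π)

variable {k : Type u} [Field k] {G X : Over (Spec (CommRingCat.of k))} [GrpObj G]
  {a : AlgGrp.Action G X} (B : GLinSh.LinBun G a) {R R' : Type u} [CommRing R] [Algebra k R]
  [CommRing R'] [Algebra k R']

theorem le_π {U : X.left.Opens} {W : Over (Spec (CommRingCat.of k))} {v : W ⟶ B.V} {q : W ⟶ X} (h : v ≫ B.π = q)
    (e : ⊤ ≤ q.left ⁻¹ᵁ U) : ⊤ ≤ v.left ⁻¹ᵁ (B.π.left ⁻¹ᵁ U) := by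
  subst h; exact e

/-- in charts, the value at a translate is a multiple, depending only on the base, of the value at the point -/
theorem exists_evalAct {T' : Over (Spec (CommRingCat.of k))} (g : T' ⟶ G) (q : T' ⟶ X) {U U' : X.left.Opens}
    {y : Γ(B.V.left, B.π.left ⁻¹ᵁ U)} {y' : Γ(B.V.left, B.π.left ⁻¹ᵁ U')} (hy : y ∈ B.atlas.chart U)
    (hy' : y' ∈ B.atlas.chart U') :
    ∃ C : Γ(T'.left, ⊤), ∀ (w : T' ⟶ B.V), w ≫ B.π = q → ∀ (e : ⊤ ≤ w.left ⁻¹ᵁ (B.π.left ⁻¹ᵁ U))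
      (e' : ⊤ ≤ (lift g w ≫ B.lift.act).left ⁻¹ᵁ (B.π.left ⁻¹ᵁ U')),
      HMNum.evalFn B.π y' (lift g w ≫ B.lift.act) e' = C * HMNum.evalFn B.π y w e := by
  obtain ⟨c, hc⟩ := B.lift_linear U U' y y' hy hy'
  let O : (G ⊗ X).left.Opens := a.act.left ⁻¹ᵁ U' ⊓ (snd G X).left ⁻¹ᵁ U
  by_cases hO : ⊤ ≤ (lift g q).left ⁻¹ᵁ O
  swap
  · refine ⟨0, fun w hw e e' => absurd ?_ hO⟩
    intro z hz
    subst hw
    refine ⟨?_, ?_⟩
    · have : (lift g (w ≫ B.π) ≫ a.act).left z ∈ U' := by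
        rw [← lift_act_π]; exact e' hz
      exact this
    · have : (lift g (w ≫ B.π) ≫ snd G X).left z ∈ U := by
        rw [lift_snd]; exact e hz
      exact this
  refine ⟨(lift g q).left.appLE O ⊤ hO c, fun w hw e e' => ?_⟩
  let p : T' ⟶ G ⊗ B.V := lift g w
  have hp : p ≫ (G ◁ B.π) = lift g q := by rw [← hw]; exact lift_whiskerLeft _ _ _
  have hpO : ⊤ ≤ p.left ⁻¹ᵁ GLinSh.liftOpen a B.π U U' := fun z hz => by
    have : (p ≫ (G ◁ B.π)).left z ∈ O := by rw [hp]; exact hO hz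
    exact this
  have key := congrArg (fun z => p.left.appLE _ ⊤ hpO z) hc
  simp only [map_mul] at key
  rw [eval_comp, eval_comp, eval_comp] at key
  refine key.trans (congrArg₂ (· * ·) (eval_congr hp _ _ _) (eval_congr (lift_snd _ _) _ _ _))

theorem exists_valAct (g : sp k R ⟶ G) (q : sp k R ⟶ X) {U U' : X.left.Opens}
    {y : Γ(B.V.left, B.π.left ⁻¹ᵁ U)} {y' : Γ(B.V.left, B.π.left ⁻¹ᵁ U')} (hy : y ∈ B.atlas.chart U)
    (hy' : y' ∈ B.atlas.chart U') :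
    ∃ C : R, ∀ (w : sp k R ⟶ B.V), w ≫ B.π = q → ∀ (e : ⊤ ≤ w.left ⁻¹ᵁ (B.π.left ⁻¹ᵁ U))
      (e' : ⊤ ≤ (lift g w ≫ B.lift.act).left ⁻¹ᵁ (B.π.left ⁻¹ᵁ U')),
      val y' (lift g w ≫ B.lift.act) e' = C * val y w e := by
  obtain ⟨C, hC⟩ := exists_evalAct B g q hy hy'
  refine ⟨spΓ (k := k) R C, fun w hw e e' => ?_⟩
  rw [val, val, ← map_mul]
  exact congrArg _ (hC w hw e e')

/-- moving a point with invertible coordinate keeps the coordinate invertible -/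
theorem isUnit_val_act (g : sp k R ⟶ G) {v : sp k R ⟶ B.V} {U U' : X.left.Opens}
    {y : Γ(B.V.left, B.π.left ⁻¹ᵁ U)} {y' : Γ(B.V.left, B.π.left ⁻¹ᵁ U')} (hy : y ∈ B.atlas.chart U)
    (hy' : y' ∈ B.atlas.chart U') (e : ⊤ ≤ v.left ⁻¹ᵁ (B.π.left ⁻¹ᵁ U))
    (e' : ⊤ ≤ (lift g v ≫ B.lift.act).left ⁻¹ᵁ (B.π.left ⁻¹ᵁ U')) (hv : IsUnit (val y v e)) :
    IsUnit (val y' (lift g v ≫ B.lift.act) e') := by
  obtain ⟨C, hC⟩ := exists_valAct B g⁻¹ ((lift g v ≫ B.lift.act) ≫ B.π) hy' hy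
  have hback : lift g⁻¹ (lift g v ≫ B.lift.act) ≫ B.lift.act = v := by
    rw [← act_mul, inv_mul_cancel, act_one]
  have h := hC (lift g v ≫ B.lift.act) rfl e' (by rw [hback]; exact e)
  rw [val_congr y hback _ e] at h
  rw [h] at hv
  exact (IsUnit.mul_iff.1 hv).2

theorem isUnit_val_chart {v : sp k R ⟶ B.V} {U U' : X.left.Opens}
    {y : Γ(B.V.left, B.π.left ⁻¹ᵁ U)} {y' : Γ(B.V.left, B.π.left ⁻¹ᵁ U')} (hy : y ∈ B.atlas.chart U)
    (hy' : y' ∈ B.atlas.chart U') (e : ⊤ ≤ v.left ⁻¹ᵁ (B.π.left ⁻¹ᵁ U))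
    (e' : ⊤ ≤ v.left ⁻¹ᵁ (B.π.left ⁻¹ᵁ U')) (hv : IsUnit (val y v e)) : IsUnit (val y' v e') := by
  have h : lift (1 : sp k R ⟶ G) v ≫ B.lift.act = v := act_one _ _
  have := isUnit_val_act B 1 hy hy' e (by rw [h]; exact e') hv
  rwa [val_congr y' h _ e'] at this

/-- a morphism into an affine open is given by its ring map -/
theorem eq_SpecMap_fromSpec {Y : Scheme.{u}} {O : Y.Opens} (hO : IsAffineOpen O) {S : Type u} [CommRing S]
    (v : Spec (CommRingCat.of S) ⟶ Y) (e : ⊤ ≤ v ⁻¹ᵁ O) :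
    v = Spec.map (v.appLE O ⊤ e ≫ (Scheme.ΓSpecIso (CommRingCat.of S)).hom) ≫ hO.fromSpec := by
  have h := hO.SpecMap_appLE_fromSpec v (isAffineOpen_top (Spec (CommRingCat.of S))) e
  rw [Spec.map_comp, Category.assoc, h]
  have h2 : (isAffineOpen_top (Spec (CommRingCat.of S))).fromSpec =
      Spec.map (Scheme.ΓSpecIso (CommRingCat.of S)).inv := by
    rw [IsAffineOpen.fromSpec_top]; exact Scheme.isoSpec_Spec_inv _
  rw [h2, ← Spec.map_comp_assoc, Iso.inv_hom_id, Spec.map_id, Category.id_comp]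

/-- a point over an affine open of a chart with prescribed coordinate -/
theorem exists_pt {U : X.left.Opens} {y : Γ(B.V.left, B.π.left ⁻¹ᵁ U)} (hy : y ∈ B.atlas.chart U)
    {W : X.left.Opens} (hW : IsAffineOpen W) (hWU : W ≤ U) (q : sp k R ⟶ X) (hq : ⊤ ≤ q.left ⁻¹ᵁ W) (r : R) :
    ∃ v : sp k R ⟶ B.V, v ≫ B.π = q ∧ ∃ e : ⊤ ≤ v.left ⁻¹ᵁ (B.π.left ⁻¹ᵁ U), val y v e = r := by
  haveI := B.atlas.affine
  have hbij := B.atlas.coord U y hy W hW hWU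
  have hP : IsAffineOpen (B.π.left ⁻¹ᵁ W) := hW.preimage B.π.left
  let E : Polynomial Γ(X.left, W) ≃+* Γ(B.V.left, B.π.left ⁻¹ᵁ W) :=
    RingEquiv.ofBijective _ hbij
  let qW : CommRingCat.of Γ(X.left, W) ⟶ CommRingCat.of R :=
    q.left.appLE W ⊤ hq ≫ (Scheme.ΓSpecIso (CommRingCat.of R)).hom
  let φ : Γ(B.V.left, B.π.left ⁻¹ᵁ W) →+* R := (Polynomial.eval₂RingHom qW.hom r).comp E.symm.toRingHom
  have hres : B.π.left.app W ≫ CommRingCat.ofHom φ = qW := by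
    ext c
    show Polynomial.eval₂ qW.hom r (E.symm (B.π.left.app W c)) = qW c
    have : E (Polynomial.C c) = B.π.left.app W c := by simp [E]
    rw [← this, RingEquiv.symm_apply_apply, Polynomial.eval₂_C]
  let vl : (sp k R).left ⟶ B.V.left := Spec.map (CommRingCat.ofHom φ) ≫ hP.fromSpec
  have hvl : vl ≫ B.π.left = q.left := by
    have h := hW.SpecMap_appLE_fromSpec B.π.left hP le_rfl
    show (Spec.map (CommRingCat.ofHom φ) ≫ hP.fromSpec) ≫ B.π.left = _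
    rw [Category.assoc, ← h, ← Spec.map_comp_assoc]
    refine Eq.trans ?_ (eq_SpecMap_fromSpec hW q.left hq).symm
    congr 2
    rw [show B.π.left.appLE W (B.π.left ⁻¹ᵁ W) le_rfl = B.π.left.app W from by simp [Scheme.Hom.appLE]]
    exact hres
  let v : sp k R ⟶ B.V := Over.homMk vl (by rw [← Over.w B.π, reassoc_of% hvl]; exact Over.w q)
  have hv : v ≫ B.π = q := Over.OverMorphism.ext hvl
  have eW : ⊤ ≤ v.left ⁻¹ᵁ (B.π.left ⁻¹ᵁ W) := le_π B hv hq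
  refine ⟨v, hv, le_π B hv (fun z hz => hWU (hq hz)), ?_⟩
  have hφ : CommRingCat.ofHom φ = v.left.appLE (B.π.left ⁻¹ᵁ W) ⊤ eW ≫ (Scheme.ΓSpecIso (CommRingCat.of R)).hom := by
    apply Spec.map_injective
    rw [← cancel_mono hP.fromSpec]
    exact eq_SpecMap_fromSpec hP v.left eW
  have hyr : φ (GLinSh.res B.π hWU y) = r := by
    show Polynomial.eval₂ qW.hom r (E.symm (GLinSh.res B.π hWU y)) = r
    have : E Polynomial.X = GLinSh.res B.π hWU y := by simp [E]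
    rw [← this, RingEquiv.symm_apply_apply, Polynomial.eval₂_X]
  rw [← hyr]
  show spΓ (k := k) R (v.left.appLE (B.π.left ⁻¹ᵁ U) ⊤ _ y) = (CommRingCat.ofHom φ) (GLinSh.res B.π hWU y)
  rw [hφ]
  show _ = spΓ (k := k) R (v.left.appLE (B.π.left ⁻¹ᵁ W) ⊤ eW (GLinSh.res B.π hWU y))
  congr 1
  have h2 : B.V.left.presheaf.map (homOfLE (B.π.left.preimage_mono hWU)).op ≫
      v.left.appLE (B.π.left ⁻¹ᵁ W) ⊤ eW = v.left.appLE (B.π.left ⁻¹ᵁ U) ⊤ (le_π B hv (fun z hz => hWU (hq hz))) :=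
    Scheme.Hom.map_appLE _ _ _
  exact congr($h2 y).symm

/-- an affine open inside a chart around a point -/
theorem exists_chart (x : X.left) : ∃ (U : X.left.Opens) (y : Γ(B.V.left, B.π.left ⁻¹ᵁ U)),
    y ∈ B.atlas.chart U ∧ x ∈ U ∧ ∃ W : X.left.Opens, IsAffineOpen W ∧ W ≤ U ∧ x ∈ W := by
  obtain ⟨U, hx, y, hy⟩ := B.atlas.cover x
  obtain ⟨W, hW, hxW, hWU⟩ := exists_isAffineOpen_mem_and_subset (U := U) hx
  exact ⟨U, y, hy, hx, W, hW, hWU, hxW⟩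

/-- a point whose coordinates are invertible -/
def Nonzero (v : sp k R ⟶ B.V) : Prop :=
  ∃ (U : X.left.Opens) (y : Γ(B.V.left, B.π.left ⁻¹ᵁ U)) (e : ⊤ ≤ v.left ⁻¹ᵁ (B.π.left ⁻¹ᵁ U)),
    y ∈ B.atlas.chart U ∧ IsUnit (val y v e)

variable {B}

theorem Nonzero.act [IsLocalRing R] {v : sp k R ⟶ B.V} (h : Nonzero B v) (g : sp k R ⟶ G) :
    Nonzero B (lift g v ≫ B.lift.act) := by
  obtain ⟨U, y, e, hy, hu⟩ := h
  obtain ⟨U', y', hy', hx, -⟩ := exists_chart B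
    (((lift g v ≫ B.lift.act) ≫ B.π).left (IsLocalRing.closedPoint R))
  have e' : ⊤ ≤ (lift g v ≫ B.lift.act).left ⁻¹ᵁ (B.π.left ⁻¹ᵁ U') := le_top_pre _ hx
  exact ⟨U', y', e', hy', isUnit_val_act B g hy hy' e e' hu⟩

theorem Nonzero.comp {v : sp k R ⟶ B.V} (h : Nonzero B v) (ψ : R →ₐ[k] R') : Nonzero B (pt ψ ≫ v) := by
  obtain ⟨U, y, e, hy, hu⟩ := h
  exact ⟨U, y, le_comp e _, hy, by rw [val_comp y v e]; exact hu.map ψ⟩

theorem Nonzero.isUnit_val {v : sp k R ⟶ B.V} (h : Nonzero B v) {U : X.left.Opens}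
    {y : Γ(B.V.left, B.π.left ⁻¹ᵁ U)} (hy : y ∈ B.atlas.chart U) (e : ⊤ ≤ v.left ⁻¹ᵁ (B.π.left ⁻¹ᵁ U)) :
    IsUnit (val y v e) := by
  obtain ⟨U₀, y₀, e₀, hy₀, hu⟩ := h
  exact isUnit_val_chart B hy₀ hy e₀ e hu

variable (B) in
/-- every field-valued point has a non-zero point over it -/
theorem exists_nonzero [IsLocalRing R] (q : sp k R ⟶ X) : ∃ v : sp k R ⟶ B.V, v ≫ B.π = q ∧ Nonzero B v := by
  obtain ⟨U, y, hy, -, W, hW, hWU, hx⟩ := exists_chart B (q.left (IsLocalRing.closedPoint R))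
  obtain ⟨v, hv, e, hr⟩ := exists_pt B hy hW hWU q (le_top_pre q hx) 1
  exact ⟨v, hv, U, y, e, hy, by rw [hr]; exact isUnit_one⟩

/-- the value of a function of weight `n` in a chart -/
theorem gval_weight {n : ℕ} {f : Γ(B.V.left, ⊤)} {U : X.left.Opens} {y : Γ(B.V.left, B.π.left ⁻¹ᵁ U)}
    {c : Γ(X.left, U)} (hf : GLinSh.resTop B.π U f = B.π.left.app U c * y ^ n) (v : sp k R ⟶ B.V)
    (e : ⊤ ≤ v.left ⁻¹ᵁ (B.π.left ⁻¹ᵁ U)) (q : sp k R ⟶ X) (hq : v ≫ B.π = q) (eq' : ⊤ ≤ q.left ⁻¹ᵁ U) :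
    gval f v = val c q eq' * val y v e ^ n := by
  rw [gval_eq_val f v e]
  show val (GLinSh.resTop B.π U f) v e = _
  rw [hf, val, map_mul, map_pow, map_mul, map_pow]
  congr 2
  show v.left.appLE (B.π.left ⁻¹ᵁ U) ⊤ e (B.π.left.app U c) = _
  subst hq
  rfl

end Groth.Agent.HMTor29
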