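import Groth.Agent.HMTor29.Weight
import Groth.Agent.HMConj.Limit
import Groth.Agent.RatExtLib.DimOne
import Groth.Agent.SGA3cLib.DiagPoints
import Mathlib.AlgebraicGeometry.Noetherian
import Mathlib.AlgebraicGeometry.Morphisms.Proper
import Mathlib.RingTheory.RegularLocalRing.Defs

/-! # Existence of the limit of an orbit of a one-parameter subgroup in a proper scheme -/

set_option autoImplicit false
set_option linter.style.haveILetI false
set_option backward.isDefEq.respectTransparency.types false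

noncomputable section

universe u

open CategoryTheory CategoryTheory.Limits MonoidalCategory CartesianMonoidalCategory MonObj AlgebraicGeometry Opposite
open CoactBr (sp pt)
open Magnet

namespace Groth.Agent.HMTor29

open SGA3cLib (bcZ)

variable {S : Scheme.{u}} {N N' : Type} [AddCommMonoid N] [AddCommMonoid N']

/-- pulling back along a base-changed map of group algebras -/
theorem fn_bcMap {W : Over S} {A A' : Type u} [CommRing A] [CommRing A'] [Algebra (ULift.{u} ℤ) A]
    [Algebra (ULift.{u} ℤ) A'] (ψ : A' →ₐ[ULift.{u} ℤ] A) (g : W ⟶ bcZ S A) (b : A') :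
    SGA3cLib.fn (g ≫ (Over.pullback (IsTerminal.from specULiftZIsTerminal S)).map (CoactBr.pt ψ)) b =
      SGA3cLib.fn g (ψ b) := by
  have h : SGA3cLib.proj (g ≫ (Over.pullback (IsTerminal.from specULiftZIsTerminal S)).map (CoactBr.pt ψ)) =
      SGA3cLib.proj g ≫ CoactBr.pt ψ := SGA3cLib.proj_map g _
  have h' := congrArg CommaMorphism.left h
  simp only [Over.comp_left, SGA3cLib.proj_left, CoactBr.pt_left, Category.assoc] at h'
  have e1 : (Scheme.ΓSpecIso (CommRingCat.of A')).inv ≫
      ((g ≫ (Over.pullback (IsTerminal.from specULiftZIsTerminal S)).map (CoactBr.pt ψ)).left ≫ pullback.fst _ _).appTop =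
      CommRingCat.ofHom ψ.toRingHom ≫ (Scheme.ΓSpecIso (CommRingCat.of A)).inv ≫ (g.left ≫ pullback.fst _ _).appTop := by
    refine Eq.trans ?_ (Scheme.ΓSpecIso_inv_naturality_assoc _ _).symm
    refine congrArg ((Scheme.ΓSpecIso (CommRingCat.of A')).inv ≫ ·) ?_
    refine Eq.trans ?_ (Scheme.Hom.comp_appTop _ _)
    refine congrArg Scheme.Hom.appTop ?_
    exact h'.trans (Category.assoc _ _ _).symm
  exact congr($e1 b)

variable {k : Type u} [Field k]

/-- the coordinate of the affine line -/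
def coord {W : Over (Spec (CommRingCat.of k))} (g : W ⟶ HMNum.A1 (Spec (CommRingCat.of k))) : Γ(W.left, ⊤) :=
  SGA3cLib.fn (A := MonoidAlgebra (ULift.{u} ℤ) (Multiplicative ↥HMNum.plus)) g
    (MonoidAlgebra.single (Multiplicative.ofAdd (⟨1, AddSubmonoid.mem_multiples 1⟩ : ↥HMNum.plus)) 1)

theorem coord_comp {W W' : Over (Spec (CommRingCat.of k))} (f : W' ⟶ W)
    (g : W ⟶ HMNum.A1 (Spec (CommRingCat.of k))) : coord (f ≫ g) = f.left.appTop (coord g) := rfl

theorem coord_incl {W : Over (Spec (CommRingCat.of k))} (g : W ⟶ Red.Gm (Spec (CommRingCat.of k))) :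
    coord (g ≫ HMNum.incl _) = Red.gmFn g := by
  rw [SGA3cLib.gmFn_eq_fn, coord]
  unfold HMNum.incl AMonS.map
  rw [AMon.map_eq_pt]
  refine (fn_bcMap _ g _).trans (congrArg (SGA3cLib.fn g) ?_)
  exact MonoidAlgebra.mapDomain_single

theorem coord_origin {W : Over (Spec (CommRingCat.of k))} :
    coord (toUnit W ≫ HMNum.origin (Spec (CommRingCat.of k))) = 0 := by
  rw [coord, HMNum.origin, ← Category.assoc]
  unfold AMonS.faceMap AMon.faceMap
  refine (fn_bcMap _ _ _).trans ?_
  rw [faceAlgHom_single_of_not_mem _ HMNum.isFace_bot _ (by simp), map_zero]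

/-- the affine line mapped to `Spec k[X]` -/
def α0 : HMNum.A1 (Spec (CommRingCat.of k)) ⟶ sp k (Polynomial k) :=
  toSp (Polynomial.eval₂RingHom (sc _) (coord (𝟙 _)))
    (RingHom.ext fun c => Polynomial.eval₂_C _ _)

theorem gfn_α0 {W : Over (Spec (CommRingCat.of k))} (g : W ⟶ HMNum.A1 (Spec (CommRingCat.of k))) :
    gfn (g ≫ α0) = Polynomial.eval₂RingHom (sc W) (coord g) := by
  refine Polynomial.ringHom_ext (fun c => ?_) ?_
  · rw [gfn_comp, α0, gfn_toSp]
    simp only [Polynomial.coe_eval₂RingHom, Polynomial.eval₂_C]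
    exact sc_comp g c
  · rw [gfn_comp, α0, gfn_toSp]
    simp only [Polynomial.coe_eval₂RingHom, Polynomial.eval₂_X]
    rw [← coord_comp, Category.comp_id]

theorem incl_α0 : HMNum.incl (Spec (CommRingCat.of k)) ≫ α0 = toL (𝟙 _) ≫ pt Polynomial.toLaurentAlg := by
  apply sp_ext
  rw [gfn_α0]
  refine Polynomial.ringHom_ext (fun c => ?_) ?_
  · simp only [Polynomial.coe_eval₂RingHom, Polynomial.eval₂_C]
    rw [show Polynomial.C c = algebraMap k (Polynomial k) c from rfl, gfn_const]
  · simp only [Polynomial.coe_eval₂RingHom, Polynomial.eval₂_X]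
    rw [← Category.id_comp (HMNum.incl _), coord_incl, gfn_comp, gfn_apply]
    show _ = gfn (toL (𝟙 _)) (spΓ (k := k) _ (gfn (pt Polynomial.toLaurentAlg) Polynomial.X))
    rw [show spΓ (k := k) (LaurentPolynomial k) (gfn (pt Polynomial.toLaurentAlg) Polynomial.X) = LaurentPolynomial.T 1 from by
      show spΓ (k := k) (LaurentPolynomial k) ((pt Polynomial.toLaurentAlg).left.appTop ((spΓ (k := k) (Polynomial k)).symm Polynomial.X)) = _
      rw [spΓ_natural, RingEquiv.apply_symm_apply]; simp, gfn_toL_T, zpow_one]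
    rfl

variable {G X : Over (Spec (CommRingCat.of k))} [GrpObj G] [IsProper X.hom] (a : AlgGrp.Action G X)
  (l : Red.Gm (Spec (CommRingCat.of k)) ⟶ G) [IsMonHom l]

theorem exists_extend (o : sp k (LaurentPolynomial k) ⟶ X) :
    ∃ f0 : sp k (Polynomial k) ⟶ X, pt Polynomial.toLaurentAlg ≫ f0 = o := by
  let Y : Scheme.{u} := Spec (CommRingCat.of (Polynomial k))
  let sY : Y ⟶ Spec (CommRingCat.of k) := (sp k (Polynomial k)).hom
  let j : Spec (CommRingCat.of (LaurentPolynomial k)) ⟶ Y := (pt (Polynomial.toLaurentAlg (R := k))).left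
  haveI : IsOpenImmersion j := by
    have : IsOpenImmersion (Spec.map (CommRingCat.ofHom
        (algebraMap (Polynomial k) (LaurentPolynomial k)))) :=
      IsOpenImmersion.of_isLocalization (Polynomial.X : Polynomial k)
    exact this
  let V : Y.Opens := j.opensRange
  have hV : Dense (V : Set Y) := V.isOpen.dense (Set.range_nonempty _)
  haveI : IsLocallyNoetherian Y := inferInstance
  let s : (V : Scheme.{u}) ⟶ pullback X.hom sY :=
    pullback.lift (j.isoOpensRange.inv ≫ o.left) V.ι (by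
      have ho : o.left ≫ X.hom = j ≫ sY :=
        (Over.w o).trans (Over.w (pt (Polynomial.toLaurentAlg (R := k)))).symm
      rw [Category.assoc]
      refine (congrArg (j.isoOpensRange.inv ≫ ·) ho).trans ?_
      exact (Category.assoc _ _ _).symm.trans (congrArg (· ≫ sY) (Scheme.Hom.isoOpensRange_inv_comp _)))
  have hreg : ∀ y : Y, ringKrullDim (Y.presheaf.stalk y) ≤ 1 → IsRegularLocalRing (Y.presheaf.stalk y) := by
    intro y _
    haveI : IsRegularLocalRing (Localization.AtPrime y.asIdeal) :=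
      (isRegularRing_iff (R := Polynomial k)).1 inferInstance y.asIdeal
    let e : Localization.AtPrime y.asIdeal ≃+* Y.presheaf.stalk y :=
      (Spec.stalkIso (CommRingCat.of (Polynomial k)) y).symm.commRingCatIsoToRingEquiv
    exact IsRegularLocalRing.of_ringEquiv e
  obtain ⟨U, hVU, s', hs', hres, hmem⟩ := RatExtLib.exists_extension_dimOne hreg (pullback.snd X.hom sY)
    (pullback.snd X.hom sY).isClosedMap V hV s (pullback.lift_snd _ _ _)
  have hU : U = ⊤ := top_le_iff.1 fun y _ => hmem y (by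
    rw [ringKrullDim_eq_of_ringEquiv (Spec.stalkIso (CommRingCat.of (Polynomial k)) y).commRingCatIsoToRingEquiv]
    refine le_trans (le_of_eq (IsLocalization.AtPrime.ringKrullDim_eq_height y.asIdeal (Localization.AtPrime y.asIdeal))) ?_
    refine le_trans Ideal.height_le_ringKrullDim_of_isPrime ?_
    exact Ring.krullDimLE_iff.1 inferInstance)
  subst hU
  let g : Y ⟶ X.left := Y.topIso.inv ≫ s' ≫ pullback.fst _ _
  have hg : g ≫ X.hom = sY := by
    simp only [g, Category.assoc, pullback.condition, reassoc_of% hs', ← Scheme.topIso_hom, Iso.inv_hom_id_assoc]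
  refine ⟨Over.homMk g hg, ?_⟩
  apply Over.OverMorphism.ext
  show j ≫ Y.topIso.inv ≫ s' ≫ pullback.fst _ _ = o.left
  have hj : j ≫ Y.topIso.inv = j.isoOpensRange.hom ≫ Y.homOfLE hVU := by
    rw [← cancel_mono (⊤ : Y.Opens).ι, Category.assoc, Category.assoc, Scheme.homOfLE_ι,
      Scheme.Hom.isoOpensRange_hom_ι, ← Scheme.topIso_hom, Iso.inv_hom_id, Category.comp_id]
  rw [← Category.assoc, hj, Category.assoc, reassoc_of% hres, pullback.lift_fst, Iso.hom_inv_id_assoc]

variable [IsAlgClosed k]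

theorem exists_limit (x : 𝟙_ (Over (Spec (CommRingCat.of k))) ⟶ X) :
    ∃ (f0 : sp k (Polynomial k) ⟶ X) (y0 : 𝟙_ (Over (Spec (CommRingCat.of k))) ⟶ X),
      pt Polynomial.toLaurentAlg ≫ f0 = orb l a (toUnit _ ≫ x) ∧
      toUnit _ ≫ y0 = pt (Polynomial.aeval (0 : k)) ≫ f0 ∧ HMNum.IsLimitPt a l x y0 := by
  obtain ⟨f0, hf0⟩ := exists_extend (orb l a (toUnit _ ≫ x))
  refine ⟨f0, HMNum.origin _ ≫ α0 ≫ f0, hf0, ?_, ?_⟩
  · rw [← Category.assoc, ← Category.assoc]
    congr 1
    apply sp_ext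
    rw [gfn_α0]
    refine Polynomial.ringHom_ext (fun c => ?_) ?_
    · simp only [Polynomial.coe_eval₂RingHom, Polynomial.eval₂_C]
      rw [show Polynomial.C c = algebraMap k (Polynomial k) c from rfl, gfn_const]
    · simp only [Polynomial.coe_eval₂RingHom, Polynomial.eval₂_X]
      rw [coord_origin]
      apply (spΓ (k := k) k).injective
      show _ = spΓ (k := k) k ((pt (Polynomial.aeval (0 : k))).left.appTop ((spΓ (k := k) (Polynomial k)).symm Polynomial.X))
      rw [spΓ_natural, RingEquiv.apply_symm_apply, map_zero]; simp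
  · have hincl : HMNum.incl (Spec (CommRingCat.of k)) ≫ α0 ≫ f0 = lift l (toUnit _ ≫ x) ≫ a.act := by
      rw [← Category.assoc, incl_α0, Category.assoc, hf0, orb, comp_lift_assoc, ← Category.assoc, toL_gpt,
        Category.id_comp]
      congr 2
      simp only [← Category.assoc]
      congr 1
      exact toUnit_unique _ _
    let ψ : HMNum.A1 (Spec (CommRingCat.of k)) ⟶ X := α0 ≫ f0
    have hsub : ∀ {T : Over (Spec (CommRingCat.of k))} (g : T ⟶ Red.Gm (Spec (CommRingCat.of k)))
        (c : T ⟶ HMNum.A1 (Spec (CommRingCat.of k))), lift g c ≫ (subAct (Spec (CommRingCat.of k)) ℤ HMNum.plus).act =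
          (g ≫ AMonS.map _ HMNum.plus.subtype) * c := by
      intro T g c
      unfold subAct
      rw [MonAct.lift_restrict_act, MonAct.lift_regular_act]
    have hinj : ∀ {T : Over (Spec (CommRingCat.of k))} (g : T ⟶ Red.Gm (Spec (CommRingCat.of k))),
        (g ≫ AMonS.map _ HMNum.plus.subtype) ≫ ψ = lift (g ≫ l) (toUnit _ ≫ x) ≫ a.act := by
      intro T g
      rw [Category.assoc, show AMonS.map _ HMNum.plus.subtype ≫ ψ = _ from hincl, comp_lift_assoc, ← Category.assoc,
        comp_toUnit]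
    have huniv : lift (snd (HMNum.A1 (Spec (CommRingCat.of k))) (Red.Gm (Spec (CommRingCat.of k)))) (fst _ _) ≫
        (subAct (Spec (CommRingCat.of k)) ℤ HMNum.plus).act ≫ ψ =
        lift (snd _ _ ≫ l) (fst _ _ ≫ ψ) ≫ a.act := by
      refine Misc15.MagnetPointsS.cancel_map HMNum.plus.subtype Subtype.val_injective _ _ ?_
      apply Magnet.hom_ext_lift₂
      intro T' b g
      simp only [lift_whiskerRight_assoc, comp_lift_assoc, lift_snd, lift_fst, lift_snd_assoc, lift_fst_assoc]
      rw [← Category.assoc, hsub, ← MonObj.mul_comp, hinj, hinj, MonObj.mul_comp, HMConj.act_mul]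
    have hmem : ∀ {T' : Over (Spec (CommRingCat.of k))} (g : T' ⟶ Red.Gm (Spec (CommRingCat.of k)))
        (b : T' ⟶ HMNum.A1 (Spec (CommRingCat.of k))),
        (lift g b ≫ (subAct (Spec (CommRingCat.of k)) ℤ HMNum.plus).act) ≫ ψ = lift (g ≫ l) (b ≫ ψ) ≫ a.act := by
      intro T' g b
      have h := congrArg (lift b g ≫ ·) huniv
      simp only [comp_lift_assoc, lift_snd, lift_fst, lift_snd_assoc, lift_fst_assoc] at h
      rw [Category.assoc]; exact h
    have he : MonAct.IsEquivariant ((subAct (Spec (CommRingCat.of k)) ℤ HMNum.plus).prod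
        (MonAct.trivial (Red.Gm (Spec (CommRingCat.of k))) (𝟙_ _))) (HMNum.gmAct a l) (fst _ _ ≫ ψ) := by
      refine (MonAct.mem_eqvHom_iff _).2 fun T' g b t => ?_
      rw [lift_fst_assoc, lift_fst_assoc, MonAct.lift_restrict_act, MonAct.ofAction_act, hmem]
    refine ⟨⟨fst _ _ ≫ ψ, he⟩, ?_, ?_⟩
    · show lift (toUnit _ ≫ η[AMonS _ ↥HMNum.plus]) (𝟙 _) ≫ fst _ _ ≫ ψ = x
      rw [lift_fst_assoc]
      have hη : toUnit (𝟙_ (Over (Spec (CommRingCat.of k)))) ≫ η[AMonS _ ↥HMNum.plus] =
          (1 : 𝟙_ (Over (Spec (CommRingCat.of k))) ⟶ Red.Gm _) ≫ AMonS.map _ HMNum.plus.subtype := by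
        rw [MonObj.one_comp, Hom.one_def]
      rw [hη, hinj, MonObj.one_comp, HMConj.act_one, toUnit_unique (toUnit (𝟙_ _)) (𝟙 _), Category.id_comp]
    · rw [HMNum.limitPt_eq]
      show lift _ (𝟙 _) ≫ fst _ _ ≫ ψ = _
      rw [lift_fst_assoc, toUnit_unique (toUnit (𝟙_ _)) (𝟙 _), Category.id_comp]

end Groth.Agent.HMTor29
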