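import Groth.Agent.HMTor29.Weight
import Mathlib.FieldTheory.RatFunc.AsPolynomial
import Mathlib.RingTheory.Localization.AtPrime.Basic

/-! # The order of vanishing along an orbit and the weight at the limit -/

set_option autoImplicit false
set_option linter.style.haveILetI false
set_option backward.isDefEq.respectTransparency.types false

noncomputable section

universe u

open CategoryTheory CategoryTheory.Limits MonoidalCategory CartesianMonoidalCategory MonObj AlgebraicGeometry Opposite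
open CoactBr (sp pt)
open LaurentPolynomial (T)

namespace Groth.Agent.HMTor29

open HMConj (act_mul act_one lift_act_π)

variable {k : Type u} [Field k]

theorem comp_lev {R R' : Type u} [CommRing R] [Algebra k R] [CommRing R'] [Algebra k R'] (ψ : R →ₐ[k] R')
    (r : Rˣ) : ψ.comp (lev r) = lev (Units.map ψ.toMonoidHom r) := by
  refine AddMonoidAlgebra.algHom_ext (fun n => ?_) (Subsingleton.elim _ _)
  show ψ (lev r (T n)) = lev (Units.map ψ.toMonoidHom r) (T n)
  rw [lev_T, lev_T, ← map_zpow]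
  rfl

theorem coeff_toLaurent_mul_T (p : Polynomial k) (m : ℤ) (i : ℕ) :
    (Polynomial.toLaurent p * T m).coeff ((i : ℤ) + m) = p.coeff i := by
  induction p using Polynomial.induction_on' with
  | add p q hp hq => simp [add_mul, hp, hq]
  | monomial j c =>
    rw [Polynomial.toLaurent_C_mul_T, _root_.mul_assoc, ← LaurentPolynomial.T_add, Polynomial.coeff_monomial,
      ← LaurentPolynomial.single_eq_C_mul_T, AddMonoidAlgebra.coeff_single, Finsupp.single_apply]
    by_cases h : j = i
    · simp [h]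
    · rw [if_neg h, if_neg (by omega)]

theorem exists_index_of_coeff_ne_zero (p : Polynomial k) (m d : ℤ)
    (h : (Polynomial.toLaurent p * T m).coeff d ≠ 0) : ∃ i : ℕ, d = (i : ℤ) + m := by
  induction p using Polynomial.induction_on' with
  | add p q hp hq =>
    by_contra hno
    refine h ?_
    rw [map_add, add_mul, AddMonoidAlgebra.coeff_add, Finsupp.add_apply]
    rw [not_ne_iff.1 (fun hh => hno (hp hh)), not_ne_iff.1 (fun hh => hno (hq hh)), add_zero]
  | monomial j c =>
    rw [Polynomial.toLaurent_C_mul_T, _root_.mul_assoc, ← LaurentPolynomial.T_add,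
      ← LaurentPolynomial.single_eq_C_mul_T, AddMonoidAlgebra.coeff_single, Finsupp.single_apply] at h
    exact ⟨j, by by_contra hne; exact h (if_neg (Ne.symm hne))⟩

variable (k) in
/-- the prime of the origin -/
abbrev P0 : Ideal (Polynomial k) := Ideal.span {Polynomial.X}

instance : (P0 k).IsPrime :=
  (Ideal.span_singleton_prime Polynomial.X_ne_zero).2 Polynomial.prime_X

theorem eval_ne_zero (s : (P0 k).primeCompl) : (s : Polynomial k).eval 0 ≠ 0 := fun h =>
  s.2 (Ideal.mem_span_singleton.2 (Polynomial.X_dvd_iff.2 (by rwa [Polynomial.coeff_zero_eq_eval_zero])))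

variable (k) in
/-- evaluation at the origin -/
def ev0 : Localization.AtPrime (P0 k) →ₐ[k] k :=
  IsLocalization.liftAlgHom (M := (P0 k).primeCompl) (f := Polynomial.aeval (0 : k))
    fun s => by rw [isUnit_iff_ne_zero, Polynomial.coe_aeval_eq_eval]; exact eval_ne_zero s

theorem ev0_algebraMap (p : Polynomial k) : ev0 k (algebraMap _ _ p) = p.eval 0 := by
  rw [ev0, IsLocalization.liftAlgHom_apply, IsLocalization.lift_eq, ← Polynomial.coe_aeval_eq_eval]; rfl

variable (k) in
/-- into the function field -/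
def i0 : Localization.AtPrime (P0 k) →ₐ[k] RatFunc k :=
  IsLocalization.liftAlgHom (M := (P0 k).primeCompl) (f := IsScalarTower.toAlgHom k (Polynomial k) (RatFunc k))
    fun s => by
      rw [isUnit_iff_ne_zero]
      intro h
      have hs : (s : Polynomial k) = 0 := RatFunc.algebraMap_injective k (h.trans (map_zero _).symm)
      exact eval_ne_zero s (by rw [hs, Polynomial.eval_zero])

theorem i0_algebraMap (p : Polynomial k) : i0 k (algebraMap _ _ p) = algebraMap (Polynomial k) (RatFunc k) p := by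
  rw [i0, IsLocalization.liftAlgHom_apply, IsLocalization.lift_eq]; rfl

theorem ev0_closedPoint :
    (pt (ev0 k)).left (IsLocalRing.closedPoint k) = IsLocalRing.closedPoint (Localization.AtPrime (P0 k)) := by
  haveI : (RingHom.ker (ev0 k).toRingHom).IsMaximal :=
    RingHom.ker_isMaximal_of_surjective _ fun c => ⟨algebraMap k _ c, (ev0 k).commutes c⟩
  refine PrimeSpectrum.ext ?_
  show Ideal.comap (ev0 k).toRingHom (IsLocalRing.maximalIdeal k) = IsLocalRing.maximalIdeal _
  rw [IsLocalRing.maximalIdeal_eq_bot, ← RingHom.ker_eq_comap_bot]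
  exact IsLocalRing.eq_maximalIdeal inferInstance

variable {G X : Over (Spec (CommRingCat.of k))} [GrpObj G] {a : AlgGrp.Action G X} (B : GLinSh.LinBun G a)
  (l : Red.Gm (Spec (CommRingCat.of k)) ⟶ G)

theorem lev_orb' {Y : Over (Spec (CommRingCat.of k))} (b : AlgGrp.Action G Y) (v : sp k k ⟶ Y) {R : Type u}
    [CommRing R] [Algebra k R] (r : Rˣ) :
    pt (lev (k := k) r) ≫ orb l b v = lift (gpt r ≫ l) (pt (Algebra.ofId k R) ≫ v) ≫ b.act := by
  rw [orb, comp_lift_assoc, ← Category.assoc, lev_gpt, ← Category.assoc, ← CoactBr.pt_comp]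
  congr 3
  exact congrArg _ (Subsingleton.elim _ _)

variable [IsMonHom l] [IsAlgClosed k]

theorem coeff_gval_orb (q : sp k k ⟶ X) (v : sp k k ⟶ B.V) (hvq : v ≫ B.π = q) (hv : Nonzero B v)
    (f0 : sp k (Polynomial k) ⟶ X) (hf0 : pt Polynomial.toLaurentAlg ≫ f0 = orb l a q)
    (y0 : 𝟙_ (Over (Spec (CommRingCat.of k))) ⟶ X) (hy0 : toUnit _ ≫ y0 = pt (Polynomial.aeval (0 : k)) ≫ f0)
    (w : ℤ) (hwt : HMNum.HasFibreWeight B l y0 w) (n : ℕ) (f : Γ(B.V.left, ⊤))
    (hf : GLinSh.HasWeight B.atlas.chart n f) :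
    (∀ d : ℤ, (gval f (orb l B.lift v)).coeff d ≠ 0 → (n : ℤ) * w ≤ d) ∧
      ((toUnit (sp k k) ≫ y0).left (IsLocalRing.closedPoint k) ∈ GLinSh.nonvanishing B.π f →
        (gval f (orb l B.lift v)).coeff ((n : ℤ) * w) ≠ 0) := by
  obtain ⟨hfix, U, y, hy, hU, hw⟩ := hwt
  let y0k : sp k k ⟶ X := toUnit _ ≫ y0
  have hy0U : ∀ z : (sp k k).left, y0k.left z ∈ U := fun z =>
    (show (toUnit (sp k k)).left z ∈ y0.left ⁻¹ᵁ U by rw [hU]; exact Set.mem_univ _)
  obtain ⟨W, hW, hxW, hWU⟩ := exists_isAffineOpen_mem_and_subset (U := U) (hy0U (IsLocalRing.closedPoint k))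
  let r0 : Polynomial k →ₐ[k] Localization.AtPrime (P0 k) := IsScalarTower.toAlgHom k _ _
  let φ0 : sp k (Localization.AtPrime (P0 k)) ⟶ X := pt r0 ≫ f0
  have hev0 : (ev0 k).comp r0 = Polynomial.aeval (0 : k) :=
    Polynomial.algHom_ext (by simp [r0, ev0_algebraMap])
  have hφ0 : pt (ev0 k) ≫ φ0 = y0k := by
    show _ = toUnit _ ≫ y0
    rw [hy0, ← Category.assoc, ← CoactBr.pt_comp, hev0]
  have hcl : φ0.left (IsLocalRing.closedPoint _) = y0k.left (IsLocalRing.closedPoint k) := by
    rw [← ev0_closedPoint, ← hφ0]; rfl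
  have hφW : ⊤ ≤ φ0.left ⁻¹ᵁ W := le_top_pre φ0 (by rw [hcl]; exact hxW)
  have hφU : ⊤ ≤ φ0.left ⁻¹ᵁ U := fun z hz => hWU (hφW hz)
  -- the orbit over the function field
  let Xu : (RatFunc k)ˣ := Units.mk0 RatFunc.X RatFunc.X_ne_zero
  let jL : LaurentPolynomial k →ₐ[k] RatFunc k := lev Xu
  let jK : Polynomial k →ₐ[k] RatFunc k := IsScalarTower.toAlgHom k _ _
  have hjK : ∀ p, jK p = algebraMap (Polynomial k) (RatFunc k) p := fun p => rfl
  have hjinj : Function.Injective jK := RatFunc.algebraMap_injective k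
  have hi0r0 : (i0 k).comp r0 = jK := AlgHom.ext fun p => i0_algebraMap p
  have hjLjK : jL.comp Polynomial.toLaurentAlg = jK :=
    Polynomial.algHom_ext (by simp [jL, Xu, jK, lev_T, RatFunc.algebraMap_X])
  let ΨK : sp k (RatFunc k) ⟶ B.V := pt jL ≫ orb l B.lift v
  let qK : sp k (RatFunc k) ⟶ X := pt (i0 k) ≫ φ0
  have hΨq : ΨK ≫ B.π = qK := by
    show (pt jL ≫ orb l B.lift v) ≫ B.π = pt (i0 k) ≫ pt r0 ≫ f0
    rw [Category.assoc, orb_π, hvq, ← hf0, ← Category.assoc, ← Category.assoc, ← CoactBr.pt_comp,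
      ← CoactBr.pt_comp, hjLjK, hi0r0]
  have hqU : ⊤ ≤ qK.left ⁻¹ᵁ U := le_comp hφU _
  have eΨ : ⊤ ≤ ΨK.left ⁻¹ᵁ (B.π.left ⁻¹ᵁ U) := le_π B hΨq hqU
  have hΨnz : Nonzero B ΨK := by
    show Nonzero B (pt (lev Xu) ≫ orb l B.lift v)
    rw [lev_orb']
    exact (hv.comp _).act _
  let aK : RatFunc k := val y ΨK eΨ
  have haK : aK ≠ 0 := (hΨnz.isUnit_val hy eΨ).ne_zero
  obtain ⟨p, hp, hpX⟩ := Polynomial.exists_eq_pow_rootMultiplicity_mul_and_not_dvd (RatFunc.num aK)
    (fun h => haK (RatFunc.num_eq_zero_iff.1 h)) 0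
  obtain ⟨qd, hqd, hqX⟩ := Polynomial.exists_eq_pow_rootMultiplicity_mul_and_not_dvd (RatFunc.denom aK)
    (RatFunc.denom_ne_zero aK) 0
  generalize (RatFunc.num aK).rootMultiplicity 0 = ea at hp
  generalize (RatFunc.denom aK).rootMultiplicity 0 = eb at hqd
  rw [map_zero, sub_zero] at hp hqd hpX hqX
  have hp0 : p.eval 0 ≠ 0 := fun h => hpX (Polynomial.X_dvd_iff.2 (by rwa [Polynomial.coeff_zero_eq_eval_zero]))
  have hq0 : qd.eval 0 ≠ 0 := fun h => hqX (Polynomial.X_dvd_iff.2 (by rwa [Polynomial.coeff_zero_eq_eval_zero]))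
  have hfrac : aK * jK (Polynomial.X ^ eb * qd) = jK (Polynomial.X ^ ea * p) := by
    rw [← hqd, ← hp]
    have := RatFunc.num_div_denom aK
    rw [div_eq_iff (RatFunc.algebraMap_ne_zero (RatFunc.denom_ne_zero aK))] at this
    exact this.symm
  -- the twist
  have htw : ∀ z : kˣ, z ^ (ea : ℤ) = z ^ ((eb : ℤ) + w) := by
    intro z
    obtain ⟨w1, hw1, e1, hr1⟩ := exists_pt B hy hW hWU φ0 hφW 1
    let gz : sp k (Localization.AtPrime (P0 k)) ⟶ G :=
      gpt (Units.map (Algebra.ofId k (Localization.AtPrime (P0 k))).toMonoidHom z) ≫ l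
    let z1 := lift gz w1 ≫ B.lift.act
    have hzpt : pt (ev0 k) ≫ z1 = lift (gpt z ≫ l) (pt (ev0 k) ≫ w1) ≫ B.lift.act := by
      show pt (ev0 k) ≫ lift gz w1 ≫ B.lift.act = _
      rw [comp_lift_assoc, ← Category.assoc, pt_gpt]
      congr 3
      exact congrArg _ (Units.ext ((ev0 k).commutes (z : k)))
    have hevw : (pt (ev0 k) ≫ w1) ≫ B.π = toUnit _ ≫ y0 := by rw [Category.assoc, hw1]; exact hφ0
    have ez1 : ⊤ ≤ z1.left ⁻¹ᵁ (B.π.left ⁻¹ᵁ U) := by
      apply le_top_pre
      show (z1 ≫ B.π).left (IsLocalRing.closedPoint _) ∈ U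
      rw [← ev0_closedPoint]
      show ((pt (ev0 k) ≫ z1) ≫ B.π).left (IsLocalRing.closedPoint k) ∈ U
      rw [hzpt, lift_act_π, hevw, hfix _ (toUnit _) (gpt z)]
      exact hy0U _
    let C0 : Localization.AtPrime (P0 k) := val y z1 ez1
    have hC0 : ev0 k C0 = ((z ^ w : kˣ) : k) := by
      rw [← val_comp y z1 ez1 (ev0 k) (le_comp ez1 _)]
      rw [val_congr y hzpt _ (hzpt ▸ le_comp ez1 _), val_act_of_weight hU hfix hw z _ hevw (le_comp e1 _),
        val_comp y w1 e1, hr1, map_one, _root_.mul_one]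
    let zK : (RatFunc k)ˣ := Units.map (Algebra.ofId k (RatFunc k)).toMonoidHom z
    obtain ⟨CK, hCK⟩ := exists_valAct B (gpt zK ≫ l) qK hy hy
    have hi0z : pt (i0 k) ≫ gz = gpt zK ≫ l := by
      show pt (i0 k) ≫ gpt _ ≫ l = _
      rw [← Category.assoc, pt_gpt]
      congr 2
      exact Units.ext ((i0 k).commutes (z : k))
    have hCK0 : CK = i0 k C0 := by
      have h1 := hCK (pt (i0 k) ≫ w1) (by rw [Category.assoc, hw1]) (le_comp e1 _)
      have heq : lift (gpt zK ≫ l) (pt (i0 k) ≫ w1) ≫ B.lift.act = pt (i0 k) ≫ z1 := by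
        rw [← hi0z]; exact (comp_lift_assoc _ _ _ _).symm
      have h2 := h1 (by rw [heq]; exact le_comp ez1 _)
      rw [val_congr y heq _ (le_comp ez1 _), val_comp y z1 ez1, val_comp y w1 e1, hr1, map_one, _root_.mul_one] at h2
      exact h2.symm
    let σp : Polynomial k →ₐ[k] Polynomial k := Polynomial.aeval (Polynomial.C (z : k) * Polynomial.X)
    have hσinj : Function.Injective (jK.comp σp) := by
      refine hjinj.comp ?_
      intro P Q hPQ
      have h' := congrArg (Polynomial.aeval (Polynomial.C ((z⁻¹ : kˣ) : k) * Polynomial.X : Polynomial k)) hPQ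
      change ((Polynomial.aeval (Polynomial.C ((z⁻¹ : kˣ) : k) * Polynomial.X : Polynomial k)).comp
        (Polynomial.aeval (Polynomial.C (z : k) * Polynomial.X : Polynomial k))) P =
        ((Polynomial.aeval (Polynomial.C ((z⁻¹ : kˣ) : k) * Polynomial.X : Polynomial k)).comp
        (Polynomial.aeval (Polynomial.C (z : k) * Polynomial.X : Polynomial k))) Q at h'
      rw [show (Polynomial.aeval (Polynomial.C ((z⁻¹ : kˣ) : k) * Polynomial.X : Polynomial k)).comp
        (Polynomial.aeval (Polynomial.C (z : k) * Polynomial.X : Polynomial k)) = AlgHom.id k (Polynomial k) from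
          Polynomial.algHom_ext (by rw [AlgHom.comp_apply, Polynomial.aeval_X, map_mul, Polynomial.aeval_X, Polynomial.aeval_C, Polynomial.algebraMap_eq, ← _root_.mul_assoc, ← map_mul]; simp)] at h'
      exact h'
    let τ : RatFunc k →ₐ[k] RatFunc k := RatFunc.liftAlgHom (jK.comp σp)
      (nonZeroDivisors_le_comap_nonZeroDivisors_of_injective _ hσinj)
    have hτ : ∀ P : Polynomial k, τ (algebraMap _ _ P) = jK (σp P) := fun P => by
      have h := RatFunc.liftAlgHom_apply_div (φ := jK.comp σp)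
        (nonZeroDivisors_le_comap_nonZeroDivisors_of_injective _ hσinj) P 1
      simpa using h
    have hτX : Units.map τ.toMonoidHom Xu = zK * Xu := by
      refine Units.ext ?_
      show τ RatFunc.X = algebraMap k (RatFunc k) z * RatFunc.X
      rw [← RatFunc.algebraMap_X, hτ]
      simp [σp, jK, ← IsScalarTower.algebraMap_apply k (Polynomial k) (RatFunc k)]
    have hτΨ : pt τ ≫ ΨK = lift (gpt zK ≫ l) ΨK ≫ B.lift.act := by
      show pt τ ≫ pt (lev Xu) ≫ orb l B.lift v =
        lift (gpt zK ≫ l) (pt (lev Xu) ≫ orb l B.lift v) ≫ B.lift.act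
      rw [← Category.assoc, ← CoactBr.pt_comp, comp_lev, hτX, lev_orb', lev_orb', gpt_mul, MonObj.mul_comp, act_mul]
    have hkey : τ aK = i0 k C0 * aK := by
      have h1 := hCK ΨK hΨq eΨ (by rw [← hτΨ]; exact le_comp eΨ _)
      rw [val_congr y hτΨ.symm _ (le_comp eΨ _), val_comp y ΨK eΨ, hCK0] at h1
      exact h1
    obtain ⟨⟨nu, s⟩, hs⟩ := IsLocalization.surj (P0 k).primeCompl C0
    have hs1 : i0 k C0 * jK (s : Polynomial k) = jK nu := by
      have := congrArg (i0 k) hs; rwa [map_mul, i0_algebraMap, i0_algebraMap] at this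
    have hs2 : ((z ^ w : kˣ) : k) * (s : Polynomial k).eval 0 = nu.eval 0 := by
      have := congrArg (ev0 k) hs; rwa [map_mul, ev0_algebraMap, ev0_algebraMap, hC0] at this
    have hτfrac : τ aK * jK (σp (Polynomial.X ^ eb * qd)) = jK (σp (Polynomial.X ^ ea * p)) := by
      have h := congrArg τ hfrac
      rwa [map_mul, hjK, hjK, hτ, hτ] at h
    have hpoly : σp (Polynomial.X ^ ea * p) * (Polynomial.X ^ eb * qd) * (s : Polynomial k) =
        nu * (Polynomial.X ^ ea * p) * σp (Polynomial.X ^ eb * qd) := by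
      apply hjinj
      rw [map_mul, map_mul, map_mul jK (nu * _), map_mul jK nu, ← hτfrac, ← hfrac, ← hs1, hkey]
      ring
    have hcanc : Polynomial.C ((z : k) ^ ea) * (σp p * qd * (s : Polynomial k)) =
        Polynomial.C ((z : k) ^ eb) * (nu * p * σp qd) := by
      apply mul_left_cancel₀ (pow_ne_zero (ea + eb) Polynomial.X_ne_zero)
      have hX : σp Polynomial.X = Polynomial.C (z : k) * Polynomial.X := by simp [σp]
      rw [map_mul σp, map_mul σp, map_pow σp, map_pow σp, hX, mul_pow, mul_pow, ← map_pow, ← map_pow] at hpoly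
      linear_combination hpoly
    have h0 := congrArg (Polynomial.eval 0) hcanc
    have hσ0 : ∀ P : Polynomial k, (σp P).eval 0 = P.eval 0 := fun P => by
      rw [show (σp P) = P.comp (Polynomial.C (z : k) * Polynomial.X) from (Polynomial.comp_eq_aeval).symm, Polynomial.eval_comp]
      simp
    simp only [Polynomial.eval_mul, Polynomial.eval_C, hσ0, ← hs2] at h0
    have h1 : (z : k) ^ ea = (z : k) ^ eb * ((z ^ w : kˣ) : k) := by
      apply mul_right_cancel₀ (mul_ne_zero (mul_ne_zero hp0 hq0) (eval_ne_zero s))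
      linear_combination h0
    refine Units.ext ?_
    rw [zpow_natCast, zpow_add, zpow_natCast, Units.val_mul, Units.val_pow_eq_pow_val, Units.val_pow_eq_pow_val, h1]
  have hab : (ea : ℤ) = eb + w := zpow_inj htw
  -- the function
  obtain ⟨c, hc⟩ := hf U y hy
  let c0 : Localization.AtPrime (P0 k) := val c φ0 hφU
  let P := gval f (orb l B.lift v)
  have hP : jL P = i0 k c0 * aK ^ n := by
    rw [← gval_comp f (orb l B.lift v) jL, gval_weight hc ΨK eΨ qK hΨq hqU, val_comp c φ0 hφU]
  obtain ⟨⟨nu, s⟩, hs⟩ := IsLocalization.surj (P0 k).primeCompl c0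
  have hs1 : i0 k c0 * jK (s : Polynomial k) = jK nu := by
    have := congrArg (i0 k) hs; rwa [map_mul, i0_algebraMap, i0_algebraMap] at this
  have hs2 : ev0 k c0 * (s : Polynomial k).eval 0 = nu.eval 0 := by
    have := congrArg (ev0 k) hs; rwa [map_mul, ev0_algebraMap, ev0_algebraMap] at this
  obtain ⟨m, P', hP'⟩ := LaurentPolynomial.exists_T_pow P
  have hjP : jK P' = jL P * jK (Polynomial.X ^ m) := by
    have h1 : jK P' = jL (Polynomial.toLaurent P') := by rw [← hjLjK]; rfl
    have h2 : jK (Polynomial.X ^ m) = jL (T (m : ℤ)) := by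
      rw [← hjLjK, ← Polynomial.toLaurent_X_pow]; rfl
    rw [h1, hP', map_mul, h2]
  have hpoly : (P' * Polynomial.X ^ (n * eb)) * ((s : Polynomial k) * qd ^ n) =
      Polynomial.X ^ (m + n * ea) * (nu * p ^ n) := by
    apply hjinj
    have h3 : aK ^ n * jK (Polynomial.X ^ eb * qd) ^ n = jK (Polynomial.X ^ ea * p) ^ n := by rw [← mul_pow, hfrac]
    simp only [map_mul, map_pow, mul_pow, ← pow_mul] at h3 ⊢
    rw [hjP, hP, map_pow]
    linear_combination (jK Polynomial.X ^ m * i0 k c0 * jK (s : Polynomial k)) * h3 +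
      (jK Polynomial.X ^ m * jK Polynomial.X ^ (ea * n) * jK p ^ n) * hs1
  obtain ⟨R, hR⟩ : Polynomial.X ^ (m + n * ea) ∣ P' * Polynomial.X ^ (n * eb) := by
    refine Polynomial.prime_X.pow_dvd_of_dvd_mul_right _ ?_ ⟨_, hpoly⟩
    rw [Polynomial.X_dvd_iff, Polynomial.coeff_zero_eq_eval_zero, Polynomial.eval_mul, Polynomial.eval_pow]
    exact mul_ne_zero (eval_ne_zero s) (pow_ne_zero _ hq0)
  have hRe : R * ((s : Polynomial k) * qd ^ n) = nu * p ^ n := by
    rw [hR, _root_.mul_assoc] at hpoly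
    exact mul_left_cancel₀ (pow_ne_zero _ Polynomial.X_ne_zero) hpoly
  have hPT : P = Polynomial.toLaurent P' * T (-(m : ℤ)) := by
    rw [hP', _root_.mul_assoc, ← LaurentPolynomial.T_add]; simp
  refine ⟨fun d hd => ?_, fun hnv => ?_⟩
  · change P.coeff d ≠ 0 at hd
    rw [hPT] at hd
    obtain ⟨i, rfl⟩ := exists_index_of_coeff_ne_zero _ _ _ hd
    rw [coeff_toLaurent_mul_T] at hd
    by_contra hlt
    push Not at hlt
    apply hd
    have h' := congrArg (fun Q => Polynomial.coeff Q (i + n * eb)) hR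
    simp only [Polynomial.coeff_mul_X_pow] at h'
    rw [h', Polynomial.coeff_X_pow_mul', if_neg]
    intro hle
    have : (m : ℤ) + n * ea ≤ i + n * eb := by exact_mod_cast hle
    rw [hab] at this
    nlinarith
  · show P.coeff _ ≠ 0
    have hc0 : ev0 k c0 ≠ 0 := by
      rw [← val_comp c φ0 hφU (ev0 k) (le_comp hφU _), val_congr c hφ0 _ (fun z _ => hy0U z)]
      obtain ⟨pp, hpp, hπ⟩ := hnv
      have hxU : B.π.left pp ∈ U := by rw [hπ]; exact hy0U _
      have hb : pp ∈ B.V.left.basicOpen (GLinSh.resTop B.π U f) := by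
        rw [GLinSh.resTop, Scheme.basicOpen_res]; exact ⟨hxU, hpp⟩
      rw [hc, Scheme.basicOpen_mul] at hb
      have hbc : B.π.left pp ∈ X.left.basicOpen c := by
        have := hb.1
        rw [← Scheme.preimage_basicOpen] at this
        exact this
      have hy0b : y0k.left (IsLocalRing.closedPoint k) ∈ X.left.basicOpen c := by
        rw [← hπ]; exact hbc
      have eD : ⊤ ≤ y0k.left ⁻¹ᵁ X.left.basicOpen c := le_top_pre y0k hy0b
      have hu : IsUnit (val (X.left.presheaf.map (homOfLE (X.left.basicOpen_le c)).op c) y0k eD) := by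
        refine IsUnit.map (spΓ (k := k) k) ?_
        exact IsUnit.map (y0k.left.appLE _ ⊤ eD).hom (RingedSpace.isUnit_res_basicOpen _ c)
      have he : val (X.left.presheaf.map (homOfLE (X.left.basicOpen_le c)).op c) y0k eD =
          val c y0k (fun z _ => hy0U z) := by
        rw [val, val]; congr 1
        exact congr($(Scheme.Hom.map_appLE y0k.left eD (homOfLE (X.left.basicOpen_le c)).op) c)
      rw [he] at hu
      exact hu.ne_zero
    have hR0 : R.eval 0 ≠ 0 := by
      intro h
      have := congrArg (Polynomial.eval 0) hRe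
      simp only [Polynomial.eval_mul, Polynomial.eval_pow, h, zero_mul, ← hs2] at this
      exact mul_ne_zero (mul_ne_zero hc0 (eval_ne_zero s)) (pow_ne_zero _ hp0) this.symm
    rw [hPT]
    have hnn : ∃ i : ℕ, (n : ℤ) * w = (i : ℤ) + -(m : ℤ) := by
      refine ⟨m + n * ea - n * eb, ?_⟩
      have hle : n * eb ≤ m + n * ea := by
        by_contra hlt
        push Not at hlt
        have h' := congrArg (fun Q => Polynomial.coeff Q (m + n * ea)) hR
        simp only [Polynomial.coeff_mul_X_pow', Polynomial.coeff_X_pow_mul', le_refl, if_true,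
          Nat.sub_self, if_neg (not_le.2 hlt), Polynomial.coeff_zero_eq_eval_zero] at h'
        exact hR0 h'.symm
      push_cast [hle]
      rw [hab]; ring
    obtain ⟨i, hi⟩ := hnn
    rw [hi, coeff_toLaurent_mul_T]
    have h' := congrArg (fun Q => Polynomial.coeff Q (i + n * eb)) hR
    have hidx : i + n * eb = m + n * ea := by
      have : (i : ℤ) + n * eb = m + n * ea := by rw [hab]; linear_combination -hi
      exact_mod_cast this
    simp only [Polynomial.coeff_mul_X_pow] at h'
    rw [h', hidx, Polynomial.coeff_X_pow_mul', if_pos le_rfl, Nat.sub_self, Polynomial.coeff_zero_eq_eval_zero]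
    exact hR0

end Groth.Agent.HMTor29
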