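import Groth.Agent.HMTor29.Torus
import Groth.Agent.HMTor29.Order
import Groth.Agent.HMTor29.Limit
import Mathlib.LinearAlgebra.LinearIndependent.Basic

/-! # The numerical function on the one-parameter subgroups of a torus -/

set_option autoImplicit false
set_option linter.style.haveILetI false
set_option backward.isDefEq.respectTransparency.types false

noncomputable section

universe u

open CategoryTheory CategoryTheory.Limits MonoidalCategory CartesianMonoidalCategory MonObj AlgebraicGeometry Opposite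
open CoactBr (sp pt)
open LaurentPolynomial (T)

namespace Groth.Agent.HMTor29

open HMConj (act_mul act_one lift_act_π)

variable {k : Type u} [Field k] [IsAlgClosed k]

theorem laurent_sum {σ : Type*} (s : Finset σ) (c : σ → k) (e : σ → ℤ) (d : ℤ) :
    (∑ χ ∈ s, algebraMap k (LaurentPolynomial k) (c χ) * T (e χ)).coeff d =
      ∑ χ ∈ s, if e χ = d then c χ else 0 := by
  classical
  induction s using Finset.induction_on with
  | empty => simp
  | insert χ s hχ ih =>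
    rw [Finset.sum_insert hχ, Finset.sum_insert hχ, AddMonoidAlgebra.coeff_add, Finsupp.add_apply, ih,
      LaurentPolynomial.algebraMap_apply, Algebra.algebraMap_self, RingHom.id_apply,
      ← LaurentPolynomial.single_eq_C_mul_T, AddMonoidAlgebra.coeff_single, Finsupp.single_apply]

variable {Tt : Over (Spec (CommRingCat.of k))} [GrpObj Tt] (D : TorusData Tt)
  {G X : Over (Spec (CommRingCat.of k))} [GrpObj G] {a : AlgGrp.Action G X}
  (B : GLinSh.LinBun G a) (i : Tt ⟶ G) [IsMonHom i]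

/-- the exponent of a character along a one-parameter subgroup (0 for maps which are no characters) -/
def pairing (χ : (sp k k ⟶ Tt) →* k) (l : Red.Gm (Spec (CommRingCat.of k)) ⟶ Tt) : ℤ :=
  open scoped Classical in
  if h : ∃ n : ℤ, ∀ z : kˣ, χ (gpt z ≫ l) = ((z ^ n : kˣ) : k) then h.choose else 0

theorem pairing_spec {χ : (sp k k ⟶ Tt) →* k} {l : Red.Gm (Spec (CommRingCat.of k)) ⟶ Tt}
    (h : ∃ n : ℤ, ∀ z : kˣ, χ (gpt z ≫ l) = ((z ^ n : kˣ) : k)) (z : kˣ) :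
    χ (gpt z ≫ l) = ((z ^ pairing χ l : kˣ) : k) := by
  rw [pairing, dif_pos h]; exact h.choose_spec z

theorem pairing_mul {χ : (sp k k ⟶ Tt) →* k}
    (h : ∀ (l : Red.Gm (Spec (CommRingCat.of k)) ⟶ Tt) [IsMonHom l], ∃ n : ℤ, ∀ z : kˣ,
      χ (gpt z ≫ l) = ((z ^ n : kˣ) : k))
    (l₁ l₂ : Red.Gm (Spec (CommRingCat.of k)) ⟶ Tt) [IsMonHom l₁] [IsMonHom l₂] :
    pairing χ (l₁ * l₂) = pairing χ l₁ + pairing χ l₂ := by
  have hp : ∀ z : kˣ, χ (gpt z ≫ (l₁ * l₂)) = ((z ^ (pairing χ l₁ + pairing χ l₂) : kˣ) : k) := fun z => by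
    rw [MonObj.comp_mul, map_mul, pairing_spec (h l₁), pairing_spec (h l₂), zpow_add, Units.val_mul]
  refine zpow_inj (k := k) fun z => Units.ext ?_
  rw [← pairing_spec ⟨_, hp⟩ z, hp]

include D in
/-- finitely many functionals computing the numerical function on the torus -/
theorem exists_functionals [IsProper X.hom] (hB : HMNum.AmpleCover B) :
    ∃ (J : Type u) (_ : Fintype J) (ℓ : J → (Red.Gm (Spec (CommRingCat.of k)) ⟶ Tt) → ℚ),
      (∀ (j : J) (l₁ l₂ : Red.Gm (Spec (CommRingCat.of k)) ⟶ Tt) [IsMonHom l₁] [IsMonHom l₂],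
          ℓ j (l₁ * l₂) = ℓ j l₁ + ℓ j l₂) ∧
      ∀ (x : 𝟙_ (Over (Spec (CommRingCat.of k))) ⟶ X), ∃ I : Finset J,
        ∀ (l : Red.Gm (Spec (CommRingCat.of k)) ⟶ Tt) [IsMonHom l] (m : ℤ),
          HMNum.IsMu B (l ≫ i) x m ↔ ∃ j ∈ I, (m : ℚ) = ℓ j l ∧ ∀ j' ∈ I, ℓ j' l ≤ ℓ j l := by
  classical
  obtain ⟨hcpt, hcov⟩ := hB
  haveI : CompactSpace X.left := hcpt
  choose n f hn hf hxf U hUf hUaff using hcov
  obtain ⟨F, hF⟩ := isCompact_univ.elim_finite_subcover (fun x : X.left => (U x : Set X.left))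
    (fun x => (U x).isOpen) fun x _ => Set.mem_iUnion.2 ⟨x, by rw [hUf]; exact hxf x⟩
  choose S hS hspan using fun z : X.left => exists_chars D B i (f z)
  let Ch : X.left → Finset ((sp k k ⟶ Tt) →* k) := fun z => (S z).attach.image fun χ => D.chr (hS z χ.1 χ.2)
  let J := {p : X.left × ((sp k k ⟶ Tt) →* k) // p ∈ F.biUnion fun z => (Ch z).image fun χ => (z, χ)}
  have hexp : ∀ z, ∀ χ ∈ Ch z, ∀ (l : Red.Gm (Spec (CommRingCat.of k)) ⟶ Tt) [IsMonHom l], ∃ e : ℤ,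
      ∀ w : kˣ, χ (gpt w ≫ l) = ((w ^ e : kˣ) : k) := by
    intro z χ hχ l _
    obtain ⟨c, -, rfl⟩ := Finset.mem_image.1 hχ
    exact D.exists_exponent (hS z c.1 c.2) l
  have hmemF : ∀ p : J, p.1.1 ∈ F ∧ p.1.2 ∈ Ch p.1.1 := by
    rintro ⟨⟨z, χ⟩, hp⟩
    obtain ⟨z', hz', hp⟩ := Finset.mem_biUnion.1 hp
    obtain ⟨χ', hχ', heq⟩ := Finset.mem_image.1 hp
    cases heq
    exact ⟨hz', hχ'⟩
  let ℓ : J → (Red.Gm (Spec (CommRingCat.of k)) ⟶ Tt) → ℚ := fun p l =>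
    -((pairing p.1.2 l : ℤ) : ℚ) / (n p.1.1 : ℚ)
  refine ⟨J, inferInstance, ℓ, fun j l₁ l₂ _ _ => ?_, fun x => ?_⟩
  · simp only [ℓ, pairing_mul (fun l _ => hexp _ _ (hmemF j).2 l) l₁ l₂]
    push_cast; ring
  let q : sp k k ⟶ X := toUnit _ ≫ x
  obtain ⟨v, hvq, hvnz⟩ := exists_nonzero B q
  have hcoef : ∀ z, ∃ co : ((sp k k ⟶ Tt) →* k) → k, ∀ t : sp k k ⟶ Tt,
      gval (f z) (lift (t ≫ i) v ≫ B.lift.act) = ∑ χ ∈ Ch z, co χ * χ t := by
    intro z
    have h := hspan z v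
    have himg : (fun (χ : D.A) (t : sp k k ⟶ Tt) => D.tv χ t) '' (↑(S z) : Set D.A) =
        (fun χ : (sp k k ⟶ Tt) →* k => (χ : (sp k k ⟶ Tt) → k)) '' (↑(Ch z) : Set ((sp k k ⟶ Tt) →* k)) := by
      ext g
      simp only [Ch, Set.mem_image, Finset.mem_coe, Finset.mem_image, Finset.mem_attach, true_and, Subtype.exists]
      constructor
      · rintro ⟨c, hc, rfl⟩; exact ⟨_, ⟨c, hc, rfl⟩, rfl⟩
      · rintro ⟨_, ⟨c, hc, rfl⟩, rfl⟩; exact ⟨c, hc, rfl⟩
    rw [himg] at h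
    obtain ⟨c, hc⟩ := (Submodule.mem_span_image_finset_iff_exists_fun k).1 h
    let co : ((sp k k ⟶ Tt) →* k) → k := fun χ => if hχ : χ ∈ Ch z then c ⟨χ, hχ⟩ else 0
    have hco := hc
    refine ⟨co, fun t => ?_⟩
    have h2 := congrFun hco t
    simp only [Finset.sum_apply, Pi.smul_apply, smul_eq_mul] at h2
    rw [← h2, ← Finset.sum_coe_sort (Ch z)]
    refine Finset.sum_congr rfl fun χ _ => ?_
    simp [co]
  choose co hco using hcoef
  let I : Finset J := Finset.univ.filter fun p => co p.1.1 p.1.2 ≠ 0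
  have main : ∀ (l : Red.Gm (Spec (CommRingCat.of k)) ⟶ Tt) [IsMonHom l] (m : ℤ), HMNum.IsMu B (l ≫ i) x m →
      (∀ p ∈ I, ℓ p l ≤ (m : ℚ)) ∧ ∃ p ∈ I, (m : ℚ) = ℓ p l := by
    intro l _ m hμ
    have tr_orb : ∀ (z : X.left) (t : sp k k ⟶ Tt),
        gval (f z) (orb (l ≫ i) B.lift (lift (t ≫ i) v ≫ B.lift.act)) =
          ∑ χ ∈ Ch z, algebraMap k (LaurentPolynomial k) (co z χ * χ t) * T (pairing χ l) := by
      intro z t
      refine laurent_ext fun w => ?_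
      rw [← gval_comp, lev_orb, map_sum, ← act_mul, ← Category.assoc, ← MonObj.mul_comp, hco]
      refine Finset.sum_congr rfl fun χ hχ => ?_
      rw [map_mul, map_mul (lev w), lev_algebraMap, lev_T, pairing_spec (hexp z χ hχ l) w]
      simp only [Algebra.algebraMap_self, RingHom.id_apply]
      ring
    -- every translate gives bounds
    have bounds : ∀ t : sp k k ⟶ Tt, ∀ z ∈ F,
        ∀ d : ℤ, (gval (f z) (orb (l ≫ i) B.lift (lift (t ≫ i) v ≫ B.lift.act))).coeff d ≠ 0 →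
          (n z : ℤ) * (-m) ≤ d := by
      intro t z _ d hd
      let h : 𝟙_ (Over (Spec (CommRingCat.of k))) ⟶ G := uI ≫ t ≫ i
      have hh : toUnit (sp k k) ≫ h = t ≫ i := by
        rw [← Category.assoc, toUnit_uI, Category.id_comp]
      have hconj : l ≫ i = (toUnit _ ≫ h) * (l ≫ i) * (toUnit _ ≫ h)⁻¹ := by
        have e : (toUnit (Red.Gm (Spec (CommRingCat.of k))) ≫ h) = (toUnit _ ≫ uI ≫ t) ≫ i := by
          simp only [h, Category.assoc]
        rw [e, ← MonObj.mul_comp, ← GrpObj.inv_comp, ← MonObj.mul_comp, D.comm_gm (toUnit _ ≫ uI ≫ t) l,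
          mul_inv_cancel_right]
      have hμ' := HMConj.isMu_of_conj B h (l ≫ i) (l ≫ i) hconj x m hμ
      obtain ⟨y, hy, hwy⟩ := hμ'
      obtain ⟨f0, y0, hf0, hy0, hlim⟩ := exists_limit a (l ≫ i) (x ≫ HMConj.tr a h)
      obtain rfl := HMConj.limit_unique hy hlim
      have hq : (lift (t ≫ i) v ≫ B.lift.act) ≫ B.π = toUnit (sp k k) ≫ x ≫ HMConj.tr a h := by
        rw [lift_act_π, hvq, ← Category.assoc, HMConj.comp_tr, hh]
      exact (coeff_gval_orb B (l ≫ i) _ _ hq (hvnz.act _) f0 hf0 y hy0 (-m) hwy (n z) (f z) (hf z)).1 d hd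
    refine ⟨fun p hp => ?_, ?_⟩
    · obtain ⟨hz, hχ⟩ := hmemF p
      have hne : co p.1.1 p.1.2 ≠ 0 := (Finset.mem_filter.1 hp).2
      obtain ⟨t, ht⟩ : ∃ t : sp k k ⟶ Tt,
          (∑ χ ∈ Ch p.1.1, if pairing χ l = pairing p.1.2 l then co p.1.1 χ * χ t else 0) ≠ 0 := by
        by_contra hall
        push Not at hall
        have hli := linearIndependent_iff'.1 (linearIndependent_monoidHom (sp k k ⟶ Tt) k)
          ((Ch p.1.1).filter fun χ => pairing χ l = pairing p.1.2 l) (co p.1.1) (by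
            funext t
            rw [Finset.sum_apply, Finset.sum_filter]
            simpa [apply_ite] using hall t)
        exact hne (hli p.1.2 (Finset.mem_filter.2 ⟨hχ, rfl⟩))
      have hb := bounds t p.1.1 hz (pairing p.1.2 l) (by rw [tr_orb, laurent_sum]; exact ht)
      show -((pairing p.1.2 l : ℤ) : ℚ) / (n p.1.1 : ℚ) ≤ (m : ℚ)
      have hpos : (0 : ℚ) < n p.1.1 := by exact_mod_cast hn p.1.1
      rw [div_le_iff₀ hpos]
      have hb' : ((n p.1.1 : ℤ) : ℚ) * (-(m : ℚ)) ≤ ((pairing p.1.2 l : ℤ) : ℚ) := by exact_mod_cast hb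
      push_cast at hb'
      nlinarith
    · obtain ⟨y, hy, hwy⟩ := hμ
      obtain ⟨f0, y0, hf0, hy0, hlim⟩ := exists_limit a (l ≫ i) x
      obtain rfl := HMConj.limit_unique hy hlim
      obtain ⟨z, hz, hyz⟩ := Set.mem_iUnion₂.1 (hF (Set.mem_univ ((toUnit (sp k k) ≫ y).left (IsLocalRing.closedPoint k))))
      rw [hUf] at hyz
      have hne := (coeff_gval_orb B (l ≫ i) q v hvq hvnz f0 hf0 y hy0 (-m) hwy (n z) (f z) (hf z)).2 hyz
      have hone : lift ((1 : sp k k ⟶ Tt) ≫ i) v ≫ B.lift.act = v := by rw [MonObj.one_comp, act_one]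
      rw [← hone, tr_orb, laurent_sum] at hne
      obtain ⟨χ, hχ, hχne⟩ := Finset.exists_ne_zero_of_sum_ne_zero hne
      rw [ne_eq, ite_eq_right_iff, Classical.not_imp] at hχne
      refine ⟨⟨(z, χ), Finset.mem_biUnion.2 ⟨z, hz, Finset.mem_image.2 ⟨χ, hχ, rfl⟩⟩⟩,
        Finset.mem_filter.2 ⟨Finset.mem_univ _, left_ne_zero_of_mul hχne.2⟩, ?_⟩
      show (m : ℚ) = -((pairing χ l : ℤ) : ℚ) / (n z : ℚ)
      have hpos : (0 : ℚ) < n z := by exact_mod_cast hn z
      rw [hχne.1, eq_div_iff hpos.ne']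
      push_cast
      ring
  refine ⟨I, fun l _ m => ⟨fun hμ => ?_, ?_⟩⟩
  · obtain ⟨hle, p, hp, hpm⟩ := main l m hμ
    exact ⟨p, hp, hpm, fun p' hp' => hpm ▸ hle p' hp'⟩
  · rintro ⟨p, hp, hpm, hmax⟩
    obtain ⟨f0, y0, hf0, hy0, hlim⟩ := exists_limit a (l ≫ i) x
    obtain ⟨w, hw⟩ := exists_fibreWt B (l ≫ i) y0 (HMConj.isFixedBy_of_isLimitPt hlim)
    have hμ0 : HMNum.IsMu B (l ≫ i) x (-w) := ⟨y0, hlim, by rwa [neg_neg]⟩
    obtain ⟨hle, p', hp', hpm'⟩ := main l (-w) hμ0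
    have heq : ((-w : ℤ) : ℚ) = (m : ℚ) := by
      rw [hpm]
      exact le_antisymm (hpm' ▸ hmax p' hp') (hle p hp)
    have : -w = m := by exact_mod_cast heq
    rwa [this] at hμ0

end Groth.Agent.HMTor29
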