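import Groth.Agent.HMConj.Basic
import Groth.Prelude.Def_CoactBr
import Mathlib.Algebra.Polynomial.Laurent

/-! # Ring-valued points over a field: values of functions, points of the multiplicative group -/

set_option autoImplicit false
set_option backward.isDefEq.respectTransparency.types false

noncomputable section

universe u

open CategoryTheory CategoryTheory.Limits MonoidalCategory CartesianMonoidalCategory MonObj AlgebraicGeometry Opposite
open CoactBr (sp pt)

namespace Groth.Agent.HMTor29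

variable {k : Type u} [Field k] {W W' : Over (Spec (CommRingCat.of k))}
  {B C R R' : Type u} [CommRing B] [Algebra k B] [CommRing C] [Algebra k C]
  [CommRing R] [Algebra k R] [CommRing R'] [Algebra k R']

/-- constants -/
def sc (W : Over (Spec (CommRingCat.of k))) : k →+* Γ(W.left, ⊤) :=
  ((Scheme.ΓSpecIso (CommRingCat.of k)).inv ≫ W.hom.appTop).hom

theorem sc_comp (f : W' ⟶ W) (c : k) : f.left.appTop (sc W c) = sc W' c := by
  have h : (f.left ≫ W.hom).appTop = W'.hom.appTop := congrArg Scheme.Hom.appTop (Over.w f)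
  rw [Scheme.Hom.comp_appTop] at h
  exact congr($h ((Scheme.ΓSpecIso (CommRingCat.of k)).inv c))

/-- global functions of an affine scheme -/
def spΓ (B : Type u) [CommRing B] [Algebra k B] : Γ((sp k B).left, ⊤) ≃+* B :=
  (Scheme.ΓSpecIso (CommRingCat.of B)).commRingCatIsoToRingEquiv

theorem spΓ_natural (ψ : B →ₐ[k] C) (z : Γ((sp k B).left, ⊤)) :
    spΓ (k := k) C ((pt ψ).left.appTop z) = ψ (spΓ (k := k) B z) := by
  have h := Scheme.ΓSpecIso_naturality (CommRingCat.ofHom ψ.toRingHom)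
  exact congr($h z)

/-- the ring map of a map to an affine scheme -/
def gfn (f : W ⟶ sp k B) : B →+* Γ(W.left, ⊤) :=
  f.left.appTop.hom.comp (spΓ (k := k) B).symm.toRingHom

theorem gfn_comp (g : W' ⟶ W) (f : W ⟶ sp k B) (b : B) : gfn (g ≫ f) b = g.left.appTop (gfn f b) := rfl

theorem gfn_apply (f : W ⟶ sp k B) (z : Γ((sp k B).left, ⊤)) : f.left.appTop z = gfn f (spΓ (k := k) B z) := by
  simp [gfn]

theorem left_eq_toSpecΓ (f : W ⟶ sp k B) :
    f.left = W.left.toSpecΓ ≫ Spec.map (CommRingCat.ofHom (gfn f)) := by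
  have h := Scheme.toSpecΓ_naturality f.left
  have : CommRingCat.ofHom (gfn f) = (Scheme.ΓSpecIso (CommRingCat.of B)).inv ≫ f.left.appTop := rfl
  rw [this, Spec.map_comp]
  erw [← Category.assoc, ← h, Category.assoc, ← SpecMap_ΓSpecIso_hom, ← Spec.map_comp, Iso.inv_hom_id,
    Spec.map_id, Category.comp_id]

theorem sp_ext {f g : W ⟶ sp k B} (h : gfn f = gfn g) : f = g := by
  apply Over.OverMorphism.ext
  rw [left_eq_toSpecΓ, left_eq_toSpecΓ, h]

/-- the map to an affine scheme given by a ring map -/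
def toSp (φ : B →+* Γ(W.left, ⊤)) (h : φ.comp (algebraMap k B) = sc W) : W ⟶ sp k B :=
  Over.homMk (W.left.toSpecΓ ≫ Spec.map (CommRingCat.ofHom φ)) (by
    show (W.left.toSpecΓ ≫ Spec.map (CommRingCat.ofHom φ)) ≫ Spec.map (CommRingCat.ofHom (algebraMap k B)) = W.hom
    rw [Category.assoc, ← Spec.map_comp, ← CommRingCat.ofHom_comp, h]
    show W.left.toSpecΓ ≫ Spec.map ((Scheme.ΓSpecIso (CommRingCat.of k)).inv ≫ W.hom.appTop) = W.hom
    rw [Spec.map_comp]
    erw [← Scheme.toSpecΓ_naturality_assoc, ← SpecMap_ΓSpecIso_hom, ← Spec.map_comp, Iso.inv_hom_id,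
      Spec.map_id, Category.comp_id])

theorem gfn_toSp (φ : B →+* Γ(W.left, ⊤)) (h : φ.comp (algebraMap k B) = sc W) : gfn (toSp φ h) = φ := by
  refine RingHom.ext fun b => ?_
  show (W.left.toSpecΓ ≫ Spec.map (CommRingCat.ofHom φ)).appTop ((spΓ (k := k) B).symm b) = φ b
  rw [Scheme.Hom.comp_appTop, Scheme.toSpecΓ_appTop]
  erw [Scheme.ΓSpecIso_naturality]
  show φ ((spΓ (k := k) B) ((spΓ (k := k) B).symm b)) = φ b
  rw [RingEquiv.apply_symm_apply]

theorem gfn_const (f : W ⟶ sp k B) (c : k) : gfn f (algebraMap k B c) = sc W c := by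
  rw [← sc_comp f c]
  show f.left.appTop ((spΓ (k := k) B).symm (algebraMap k B c)) = _
  congr 1
  rw [RingEquiv.symm_apply_eq]
  show algebraMap k B c = (Scheme.ΓSpecIso (CommRingCat.of B)).hom
    ((sp k B).hom.appTop ((Scheme.ΓSpecIso (CommRingCat.of k)).inv c))
  have h := Scheme.ΓSpecIso_naturality (CommRingCat.ofHom (algebraMap k B))
  refine Eq.trans ?_ congr($h ((Scheme.ΓSpecIso (CommRingCat.of k)).inv c)).symm
  exact congrArg (algebraMap k B) (Iso.inv_hom_id_apply (Scheme.ΓSpecIso (CommRingCat.of k)) c).symm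

/-! values -/

variable {V : Over (Spec (CommRingCat.of k))}

/-- the value of a function at a ring-valued point -/
def val {O : V.left.Opens} (y : Γ(V.left, O)) (v : sp k R ⟶ V) (e : ⊤ ≤ v.left ⁻¹ᵁ O) : R :=
  spΓ (k := k) R (v.left.appLE O ⊤ e y)

theorem val_congr {O : V.left.Opens} (y : Γ(V.left, O)) {v v' : sp k R ⟶ V} (h : v = v')
    (e : ⊤ ≤ v.left ⁻¹ᵁ O) (e' : ⊤ ≤ v'.left ⁻¹ᵁ O) : val y v e = val y v' e' := by
  subst h; rfl

theorem le_comp {O : V.left.Opens} {v : sp k R ⟶ V} (e : ⊤ ≤ v.left ⁻¹ᵁ O) (g : W ⟶ sp k R) :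
    ⊤ ≤ (g ≫ v).left ⁻¹ᵁ O := fun z _ => e (Set.mem_univ (g.left z))

theorem appLE_comp {O : V.left.Opens} (y : Γ(V.left, O)) {U : Over (Spec (CommRingCat.of k))} (v : U ⟶ V)
    (e : ⊤ ≤ v.left ⁻¹ᵁ O) (g : W ⟶ U) (e' : ⊤ ≤ (g ≫ v).left ⁻¹ᵁ O) :
    (g ≫ v).left.appLE O ⊤ e' y = g.left.appTop (v.left.appLE O ⊤ e y) := by
  have h := Scheme.Hom.appLE_comp_appLE g.left v.left O ⊤ ⊤ e le_top
  rw [show g.left.appLE ⊤ ⊤ le_top = g.left.appTop from by simp [Scheme.Hom.appLE]] at h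
  exact congr($h y).symm

theorem val_comp {O : V.left.Opens} (y : Γ(V.left, O)) (v : sp k R ⟶ V) (e : ⊤ ≤ v.left ⁻¹ᵁ O)
    (ψ : R →ₐ[k] R') (e' : ⊤ ≤ (pt ψ ≫ v).left ⁻¹ᵁ O) : val y (pt ψ ≫ v) e' = ψ (val y v e) := by
  rw [val, appLE_comp y v e, spΓ_natural]
  rfl

/-- the value of a global function -/
def gval (f : Γ(V.left, ⊤)) (v : sp k R ⟶ V) : R := spΓ (k := k) R (v.left.appTop f)

theorem gval_comp (f : Γ(V.left, ⊤)) (v : sp k R ⟶ V) (ψ : R →ₐ[k] R') :
    gval f (pt ψ ≫ v) = ψ (gval f v) := by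
  rw [gval, gval, ← spΓ_natural]
  rfl

theorem gval_eq_val (f : Γ(V.left, ⊤)) {O : V.left.Opens} (v : sp k R ⟶ V) (e : ⊤ ≤ v.left ⁻¹ᵁ O) :
    gval f v = val (V.left.presheaf.map (homOfLE (le_top : O ≤ ⊤)).op f) v e := by
  rw [gval, val]
  congr 1
  have h : V.left.presheaf.map (homOfLE (le_top : O ≤ ⊤)).op ≫ v.left.appLE O ⊤ e = v.left.appTop := by
    simp [Scheme.Hom.appLE]; rfl
  exact congr($h f).symm

theorem le_top_pre (v : sp k R ⟶ V) {O : V.left.Opens} [IsLocalRing R]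
    (h : v.left (IsLocalRing.closedPoint R) ∈ O) : ⊤ ≤ v.left ⁻¹ᵁ O := by
  intro z _
  exact ((IsLocalRing.specializes_closedPoint (R := R) z).map v.left.continuous).mem_open O.isOpen h

/-! points of the multiplicative group -/

/-- the point of a unit -/
def gpt (r : Rˣ) : sp k R ⟶ Red.Gm (Spec (CommRingCat.of k)) :=
  GmPts.ptOfUnit (Units.map (spΓ (k := k) R).symm.toMonoidHom r)

theorem gpt_mul (r s : Rˣ) : gpt (k := k) (r * s) = gpt r * gpt s := by
  rw [gpt, map_mul, GmPts.ptOfUnit_mul]; rfl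

theorem gpt_one : gpt (k := k) (1 : Rˣ) = 1 := by
  rw [gpt, map_one, GmPts.ptOfUnit_one]

theorem pt_gpt (ψ : R →ₐ[k] R') (r : Rˣ) : pt ψ ≫ gpt r = gpt (Units.map ψ.toMonoidHom r) := by
  rw [gpt, GmPts.ptOfUnit_comp, gpt]
  congr 1
  ext
  show (pt ψ).left.appTop ((spΓ (k := k) R).symm r) = (spΓ (k := k) R').symm (ψ r)
  rw [RingEquiv.eq_symm_apply, spΓ_natural, RingEquiv.apply_symm_apply]

/-- evaluation of Laurent polynomials at a unit -/
def lev (r : Rˣ) : LaurentPolynomial k →ₐ[k] R :=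
  AddMonoidAlgebra.lift k R ℤ ((Units.coeHom R).comp (zpowersHom Rˣ r))

theorem lev_T (r : Rˣ) (n : ℤ) : lev (k := k) r (LaurentPolynomial.T n) = ((r ^ n : Rˣ) : R) := by
  rw [lev, LaurentPolynomial.T, AddMonoidAlgebra.lift_single, _root_.one_smul]
  rfl

/-- the coordinate of the Laurent polynomial ring -/
def tU : (LaurentPolynomial k)ˣ where
  val := LaurentPolynomial.T 1
  inv := LaurentPolynomial.T (-1)
  val_inv := by rw [← LaurentPolynomial.T_add]; simp
  inv_val := by rw [← LaurentPolynomial.T_add]; simp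

theorem map_tU (r : Rˣ) : Units.map (lev (k := k) r).toMonoidHom tU = r :=
  Units.ext (by simpa [tU] using lev_T (k := k) r 1)

theorem tU_zpow (n : ℤ) : ((tU (k := k) ^ n : (LaurentPolynomial k)ˣ) : LaurentPolynomial k) = LaurentPolynomial.T n := by
  have key : ∀ m : ℕ, ((tU (k := k) ^ m : (LaurentPolynomial k)ˣ) : LaurentPolynomial k) = LaurentPolynomial.T m := by
    intro m; rw [Units.val_pow_eq_pow_val]; simp [tU, LaurentPolynomial.T_pow]
  rcases Int.eq_nat_or_neg n with ⟨m, rfl | rfl⟩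
  · simpa using key m
  · rw [zpow_neg, zpow_natCast]
    refine Units.inv_eq_of_mul_eq_one_right ?_
    rw [key, ← LaurentPolynomial.T_add]; simp

theorem lev_gpt (r : Rˣ) : pt (lev (k := k) r) ≫ gpt tU = gpt r := by rw [pt_gpt, map_tU]

/-- every point of `G_m` factors through the Laurent polynomial ring -/
def toL (g : W ⟶ Red.Gm (Spec (CommRingCat.of k))) : W ⟶ sp k (LaurentPolynomial k) :=
  toSp (LaurentPolynomial.eval₂ (sc W) (GmPts.unitOfPt g))
    (RingHom.ext fun c => LaurentPolynomial.eval₂_C _ _ c)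

theorem gfn_toL_T (g : W ⟶ Red.Gm (Spec (CommRingCat.of k))) (n : ℤ) :
    gfn (toL g) (LaurentPolynomial.T n) = ((GmPts.unitOfPt g ^ n : (Γ(W.left, ⊤))ˣ) : Γ(W.left, ⊤)) := by
  rw [toL, gfn_toSp, LaurentPolynomial.eval₂_T]

theorem toL_gpt (g : W ⟶ Red.Gm (Spec (CommRingCat.of k))) : toL g ≫ gpt tU = g := by
  apply (GmPts.equiv W).injective
  rw [GmPts.equiv_apply, GmPts.equiv_apply, GmPts.unitOfPt_comp, gpt, GmPts.unitOfPt_ptOfUnit]
  ext
  show (toL g).left.appTop ((spΓ (k := k) (LaurentPolynomial k)).symm (LaurentPolynomial.T 1)) = _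
  rw [show (toL g).left.appTop ((spΓ (k := k) (LaurentPolynomial k)).symm (LaurentPolynomial.T 1)) =
    gfn (toL g) (LaurentPolynomial.T 1) from rfl, gfn_toL_T, zpow_one]

theorem exists_gpt (g : sp k R ⟶ Red.Gm (Spec (CommRingCat.of k))) : ∃ r : Rˣ, gpt r = g := by
  refine ⟨Units.map (spΓ (k := k) R).toMonoidHom (GmPts.unitOfPt g), ?_⟩
  rw [gpt]
  conv_rhs => rw [← GmPts.ptOfUnit_unitOfPt g]
  congr 1
  ext; simp

/-- Laurent polynomials are determined by their values -/
theorem laurent_ext [Infinite k] {P Q : LaurentPolynomial k}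
    (h : ∀ z : kˣ, lev (k := k) z P = lev (k := k) z Q) : P = Q := by
  rw [← sub_eq_zero]
  obtain ⟨n, f, hf⟩ := LaurentPolynomial.exists_T_pow (P - Q)
  have hz : ∀ z : k, z ≠ 0 → f.eval z = 0 := by
    intro z hz
    have h1 := congrArg (lev (k := k) (Units.mk0 z hz)) hf
    have hp : ∀ p : Polynomial k, lev (k := k) (Units.mk0 z hz) (Polynomial.toLaurent p) = p.eval z := by
      intro p
      induction p using Polynomial.induction_on' with
      | add p q hp hq => simp [hp, hq]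
      | monomial m c =>
        rw [Polynomial.toLaurent_C_mul_T, map_mul, lev_T, Polynomial.eval_monomial]
        congr 1
        exact (lev (k := k) (Units.mk0 z hz)).commutes c
    rw [hp, map_mul, map_sub, h, sub_self, zero_mul] at h1
    exact h1
  have hf0 : f = 0 := by
    refine Polynomial.eq_zero_of_infinite_isRoot f (Set.Infinite.mono (fun z hz' => hz z hz') ?_)
    exact (Set.finite_singleton (0 : k)).infinite_compl
  rw [hf0, map_zero] at hf
  exact (LaurentPolynomial.isUnit_T (n : ℤ)).mul_left_eq_zero.1 hf.symm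

end Groth.Agent.HMTor29
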