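import Groth.Agent.HMTor29.Weight
import Groth.Agent.AlgGrpLib.TorusUnipotent
import Groth.Agent.Misc15.AffinePoints

/-! # Characters of a torus on rational points -/

set_option autoImplicit false
set_option linter.style.haveILetI false
set_option backward.isDefEq.respectTransparency.types false

noncomputable section

universe u

open CategoryTheory CategoryTheory.Limits MonoidalCategory CartesianMonoidalCategory MonObj AlgebraicGeometry Opposite
open CoactBr (sp pt)
open scoped TensorProduct
open LaurentPolynomial (T)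

namespace Groth.Agent.HMTor29

variable (k : Type u) [Field k]

/-- a character inside a coordinate ring: a unit multiplicative for convolution -/
def IsChar {A : Type u} [CommRing A] [Bialgebra k A] (a : A) : Prop :=
  IsUnit a ∧ ∀ (R : Type u) [CommRing R] [Algebra k R] (s t : A →ₐ[k] R),
    (Algebra.TensorProduct.lift s t fun _ _ => .all _ _) (Bialgebra.comulAlgHom k A a) = s a * t a

variable {k} [IsAlgClosed k]

theorem span_isChar {A : Type u} [CommRing A] [HopfAlgebra k A]
    (h : HopfRep.IsDiagonalizable (AlgebraicClosure k) (AlgebraicClosure k ⊗[k] A)) :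
    Submodule.span k {a : A | IsChar k a} = ⊤ := by
  have hbij : Function.Bijective (algebraMap k (AlgebraicClosure k)) :=
    IsAlgClosed.algebraMap_bijective_of_isIntegral
  let r : AlgebraicClosure k ≃ₐ[k] k := (AlgEquiv.ofBijective (Algebra.ofId k (AlgebraicClosure k)) hbij).symm
  have hr : ∀ c : k, r (algebraMap k (AlgebraicClosure k) c) = c := fun c => r.commutes c
  let σ : AlgebraicClosure k ⊗[k] A ≃ₐ[k] A :=
    (Algebra.TensorProduct.congr r AlgEquiv.refl).trans (Algebra.TensorProduct.lid k A)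
  have hσ : ∀ (c : AlgebraicClosure k) (a : A), σ (c ⊗ₜ a) = r c • a := fun c a => rfl
  have hσ1 : ∀ a : A, σ.symm a = (1 : AlgebraicClosure k) ⊗ₜ a := fun a => by
    rw [AlgEquiv.symm_apply_eq, hσ, map_one, one_smul]
  refine eq_top_iff.2 fun a _ => ?_
  have hsub : ∀ y : AlgebraicClosure k ⊗[k] A, IsGroupLikeElem (AlgebraicClosure k) y → IsChar k (σ y) := by
    intro y hy
    refine ⟨(hy.isUnit).map σ, fun R _ _ s t => ?_⟩
    letI : Algebra (AlgebraicClosure k) R := ((algebraMap k R).comp r.toAlgHom.toRingHom).toAlgebra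
    haveI : IsScalarTower k (AlgebraicClosure k) R := IsScalarTower.of_algebraMap_eq fun c => by
      show algebraMap k R c = algebraMap k R (r (algebraMap k (AlgebraicClosure k) c)); rw [hr]
    let ext' : (A →ₐ[k] R) → (AlgebraicClosure k ⊗[k] A →ₐ[AlgebraicClosure k] R) := fun s =>
      Algebra.TensorProduct.lift (Algebra.ofId (AlgebraicClosure k) R) s fun _ _ => .all _ _
    have hext : ∀ (s : A →ₐ[k] R) (z : AlgebraicClosure k ⊗[k] A), ext' s z = s (σ z) := by
      intro s z
      induction z with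
      | zero => simp
      | add z z' h h' => simp [h, h']
      | tmul c a =>
        rw [hσ, map_smul, Algebra.TensorProduct.lift_tmul, Algebra.smul_def]
        rfl
    obtain ⟨b, hb⟩ : ∃ b : A, y = (1 : AlgebraicClosure k) ⊗ₜ b := ⟨σ y, by rw [← hσ1, AlgEquiv.symm_apply_apply]⟩
    let Φ := Algebra.TensorProduct.lift (ext' s) (ext' t) fun _ _ => .all _ _
    have hΦ : ∀ z : A ⊗[k] A, Φ (TensorProduct.AlgebraTensorModule.tensorTensorTensorComm k (AlgebraicClosure k) k
        (AlgebraicClosure k) (AlgebraicClosure k) (AlgebraicClosure k) A A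
        (((1 : AlgebraicClosure k) ⊗ₜ (1 : AlgebraicClosure k)) ⊗ₜ z)) =
        (Algebra.TensorProduct.lift s t fun _ _ => .all _ _) z := by
      intro z
      induction z with
      | zero => simp
      | add z z' h h' => simp [TensorProduct.tmul_add, h, h']
      | tmul c d => simp [Φ, ext']
    have h1 := congrArg Φ hy.comul_eq_tmul_self
    rw [Algebra.TensorProduct.lift_tmul, hext, hext, hb, TensorProduct.comul_tmul, Bialgebra.comul_one,
      Algebra.TensorProduct.one_def, hΦ] at h1
    rw [hb] 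
    rw [show σ ((1 : AlgebraicClosure k) ⊗ₜ b) = b from by rw [hσ, map_one, one_smul]]
    rw [show σ ((1 : AlgebraicClosure k) ⊗ₜ b) = b from by rw [hσ, map_one, one_smul]] at h1
    exact h1
  have hmem : σ.symm a ∈ Submodule.span (AlgebraicClosure k)
      {y : AlgebraicClosure k ⊗[k] A | IsGroupLikeElem (AlgebraicClosure k) y} := by
    rw [show Submodule.span _ _ = ⊤ from h]; trivial
  rw [← σ.apply_symm_apply a]
  generalize σ.symm a = y at hmem
  induction hmem using Submodule.span_induction with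
  | mem y hy => exact Submodule.subset_span (hsub y hy)
  | zero => rw [map_zero]; exact zero_mem _
  | add y z _ _ hy hz => rw [map_add]; exact add_mem hy hz
  | smul c y _ hy =>
    rw [show c • y = r c • y from by
      conv_lhs => rw [← r.symm_apply_apply c]
      exact algebraMap_smul (AlgebraicClosure k) (r c) y, map_smul]
    exact Submodule.smul_mem _ _ hy

/-- coordinates of a torus -/
structure TorusData (T : Over (Spec (CommRingCat.of k))) [GrpObj T] : Type (u + 1) where
  A : Type u
  [cA : CommRing A]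
  [hA : HopfAlgebra k A]
  e : sp k A ⟶ T
  [iso : IsIso e]
  [hom : IsMonHom e]
  ft : Algebra.FiniteType k A
  span : Submodule.span k {a : A | IsChar k a} = ⊤

attribute [instance] TorusData.cA TorusData.hA TorusData.iso TorusData.hom

theorem exists_torusData (T : Over (Spec (CommRingCat.of k))) [GrpObj T] (hT : Red.IsTorus T) :
    Nonempty (TorusData T) := by
  obtain ⟨A, _, _, e, he, hm, hft, -, hd⟩ := AlgGrpLib.TorusUnip.exists_split_hopf T hT
  haveI := he
  haveI := hm
  exact ⟨{ A := A, e := e, ft := hft, span := span_isChar hd }⟩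

variable {T : Over (Spec (CommRingCat.of k))} [GrpObj T] (D : TorusData T) {R : Type u} [CommRing R] [Algebra k R]

/-- the value of a coordinate at a point -/
def TorusData.tv (a : D.A) (t : sp k R ⟶ T) : R := spΓ (k := k) R (gfn (t ≫ inv D.e) a)

theorem TorusData.exists_pt (t : sp k R ⟶ T) : ∃ s : D.A →ₐ[k] R, pt s ≫ D.e = t := by
  obtain ⟨s, hs⟩ := Misc15.AffinePoints.pt_surjective (t ≫ inv D.e)
  exact ⟨s, by rw [hs, Category.assoc, IsIso.inv_hom_id, Category.comp_id]⟩

theorem TorusData.tv_pt (a : D.A) (s : D.A →ₐ[k] R) : D.tv a (pt s ≫ D.e) = s a := by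
  rw [TorusData.tv, Category.assoc, IsIso.hom_inv_id, Category.comp_id]
  show spΓ (k := k) R ((pt s).left.appTop ((spΓ (k := k) D.A).symm a)) = s a
  rw [spΓ_natural, RingEquiv.apply_symm_apply]

theorem TorusData.tv_mul {a : D.A} (ha : IsChar k a) (t t' : sp k R ⟶ T) :
    D.tv a (t * t') = D.tv a t * D.tv a t' := by
  obtain ⟨s, rfl⟩ := D.exists_pt t
  obtain ⟨s', rfl⟩ := D.exists_pt t'
  rw [← MonObj.mul_comp, CoactBr.pt_mul_pt, D.tv_pt, D.tv_pt, D.tv_pt]
  exact ha.2 R s s'

theorem TorusData.isUnit_tv {a : D.A} (ha : IsChar k a) (t : sp k R ⟶ T) : IsUnit (D.tv a t) := by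
  obtain ⟨s, rfl⟩ := D.exists_pt t
  rw [D.tv_pt]
  exact ha.1.map s

theorem TorusData.tv_one {a : D.A} (ha : IsChar k a) : D.tv a (1 : sp k R ⟶ T) = 1 := by
  have h := D.tv_mul ha (1 : sp k R ⟶ T) 1
  rw [_root_.one_mul] at h
  exact (D.isUnit_tv ha _).mul_eq_left.mp h.symm

theorem TorusData.tv_comp {R' : Type u} [CommRing R'] [Algebra k R'] (a : D.A) (t : sp k R ⟶ T) (ψ : R →ₐ[k] R') :
    D.tv a (pt ψ ≫ t) = ψ (D.tv a t) := by
  rw [TorusData.tv, TorusData.tv, Category.assoc, gfn_comp, spΓ_natural]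

/-- the character of the rational points -/
def TorusData.chr {a : D.A} (ha : IsChar k a) : (sp k k ⟶ T) →* k where
  toFun := D.tv a
  map_one' := D.tv_one ha
  map_mul' := D.tv_mul ha

/-- characters pull back to powers along one-parameter subgroups -/
theorem TorusData.exists_exponent {a : D.A} (ha : IsChar k a) (l : Red.Gm (Spec (CommRingCat.of k)) ⟶ T)
    [IsMonHom l] : ∃ n : ℤ, ∀ z : kˣ, D.tv a (gpt (k := k) z ≫ l) = ((z ^ n : kˣ) : k) := by
  obtain ⟨c, n, hcn⟩ := isUnit_laurent (D.isUnit_tv ha (gpt (k := k) (tU (k := k)) ≫ l))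
  have hval : ∀ z : kˣ, D.tv a (gpt (k := k) z ≫ l) = c * ((z ^ n : kˣ) : k) := fun z => by
    rw [← lev_gpt z, Category.assoc, D.tv_comp, hcn, map_mul, lev_algebraMap, lev_T]; rfl
  have hc := hval 1
  rw [gpt_one, MonObj.one_comp, D.tv_one ha] at hc
  simp at hc
  exact ⟨n, fun z => by rw [hval, ← hc, _root_.one_mul]⟩

include D in
theorem TorusData.comm (p q : sp k R ⟶ T) : p * q = q * p := by
  obtain ⟨s, rfl⟩ := D.exists_pt p
  obtain ⟨t, rfl⟩ := D.exists_pt q
  rw [← MonObj.mul_comp, ← MonObj.mul_comp, CoactBr.pt_mul_pt, CoactBr.pt_mul_pt]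
  congr 2
  refine AlgHom.ext fun x => ?_
  have hx : x ∈ Submodule.span k {a : D.A | IsChar k a} := D.span ▸ trivial
  induction hx using Submodule.span_induction with
  | mem y hy => simp only [AlgHom.comp_apply]; rw [hy.2 R s t, hy.2 R t s, _root_.mul_comm]
  | zero => rw [map_zero, map_zero]
  | add y z _ _ hy hz => rw [map_add, map_add, hy, hz]
  | smul c y _ hy => rw [map_smul, map_smul, hy]

include D in
theorem TorusData.comm_gm (p q : Red.Gm (Spec (CommRingCat.of k)) ⟶ T) : p * q = q * p := by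
  have h := congrArg (toL (𝟙 (Red.Gm (Spec (CommRingCat.of k)))) ≫ ·) (D.comm (gpt tU ≫ p) (gpt tU ≫ q))
  simp only [MonObj.comp_mul, ← Category.assoc, toL_gpt, Category.id_comp] at h
  exact h

variable {G X : Over (Spec (CommRingCat.of k))} [GrpObj G] {a : AlgGrp.Action G X} (B : GLinSh.LinBun G a)
  (i : T ⟶ G)

omit [IsAlgClosed k] in
theorem exists_finset_span {A Bw : Type u} [CommRing A] [Algebra k A] [CommRing Bw] [Algebra k Bw] {C : Set A}
    (hC : Submodule.span k C = ⊤) (h : A ⊗[k] Bw) :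
    ∃ S : Finset A, (↑S : Set A) ⊆ C ∧ ∀ φ : Bw →ₐ[k] k, (fun s : A →ₐ[k] k =>
      (Algebra.TensorProduct.lift s φ fun _ _ => .all _ _) h) ∈
        Submodule.span k ((fun (χ : A) (s : A →ₐ[k] k) => s χ) '' (↑S : Set A)) := by
  classical
  induction h with
  | zero => exact ⟨∅, by simp, fun φ => by simp only [map_zero]; exact zero_mem _⟩
  | add x y hx hy =>
    obtain ⟨S, hS, hx⟩ := hx
    obtain ⟨S', hS', hy⟩ := hy
    refine ⟨S ∪ S', by simp [hS, hS'], fun φ => ?_⟩
    simp only [map_add, Finset.coe_union, Set.image_union, Submodule.span_union]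
    exact Submodule.add_mem_sup (hx φ) (hy φ)
  | tmul x y =>
    obtain ⟨S, hS, hx⟩ := Submodule.mem_span_finite_of_mem_span (show x ∈ Submodule.span k C from hC ▸ trivial)
    refine ⟨S, hS, fun φ => ?_⟩
    let E : A →ₗ[k] ((A →ₐ[k] k) → k) := LinearMap.pi fun s => φ y • s.toLinearMap
    have hE : (fun s : A →ₐ[k] k => (Algebra.TensorProduct.lift s φ fun _ _ => .all _ _) (x ⊗ₜ y)) = E x := by
      funext s; simp [E, _root_.mul_comm]
    rw [hE]
    clear hE
    induction hx using Submodule.span_induction with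
    | mem z hz =>
      rw [show E z = φ y • (fun s : A →ₐ[k] k => s z) from by funext s; simp [E]]
      exact Submodule.smul_mem _ _ (Submodule.subset_span ⟨z, hz, rfl⟩)
    | zero => rw [map_zero]; exact zero_mem _
    | add z z' _ _ h h' => rw [map_add]; exact add_mem h h'
    | smul c z _ h => rw [map_smul]; exact Submodule.smul_mem _ _ h

/-- along the rational points of the torus, a function is a combination of finitely many characters -/
theorem exists_chars [CompactSpace X.left] (f : Γ(B.V.left, ⊤)) :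
    ∃ S : Finset D.A, (∀ χ ∈ S, IsChar k χ) ∧ ∀ v : sp k k ⟶ B.V,
      (fun t : sp k k ⟶ T => gval f (lift (t ≫ i) v ≫ B.lift.act)) ∈
        Submodule.span k ((fun (χ : D.A) (t : sp k k ⟶ T) => D.tv χ t) '' (↑S : Set D.A)) := by
  classical
  haveI := B.atlas.affine
  have loc : ∀ x : X.left, ∃ (W : X.left.Opens) (S : Finset D.A), x ∈ W ∧ (↑S : Set D.A) ⊆ {a | IsChar k a} ∧
      ∀ v : sp k k ⟶ B.V, (v ≫ B.π).left (IsLocalRing.closedPoint k) ∈ W →
        (fun t : sp k k ⟶ T => gval f (lift (t ≫ i) v ≫ B.lift.act)) ∈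
          Submodule.span k ((fun (χ : D.A) (t : sp k k ⟶ T) => D.tv χ t) '' (↑S : Set D.A)) := by
    intro x
    obtain ⟨W, hW, hxW, -⟩ := exists_isAffineOpen_mem_and_subset (U := (⊤ : X.left.Opens)) (show x ∈ ⊤ from trivial)
    let P : B.V.left.Opens := B.π.left ⁻¹ᵁ W
    haveI : IsAffine P.toScheme := hW.preimage B.π.left
    let Y : Over (Spec (CommRingCat.of k)) := Over.mk (P.ι ≫ B.V.hom)
    haveI : IsAffine Y.left := ‹IsAffine P.toScheme›
    obtain ⟨Bw, _, _, ⟨ε⟩⟩ := Misc15.AffinePoints.exists_sp Y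
    let ιP : Y ⟶ B.V := Over.homMk P.ι rfl
    let Ξ : sp k (D.A ⊗[k] Bw) ⟶ B.V :=
      lift (pt (Algebra.TensorProduct.includeLeft : D.A →ₐ[k] D.A ⊗[k] Bw) ≫ D.e ≫ i)
        (pt (Algebra.TensorProduct.includeRight : Bw →ₐ[k] D.A ⊗[k] Bw) ≫ ε.hom ≫ ιP) ≫ B.lift.act
    obtain ⟨S, hS, hspan⟩ := exists_finset_span D.span (gval f Ξ)
    refine ⟨W, S, hxW, hS, fun v hv => ?_⟩
    have hrange : Set.range v.left ⊆ Set.range P.ι := by
      rw [Scheme.Opens.range_ι]
      rintro _ ⟨z, rfl⟩
      exact le_top_pre v (O := P) hv (Set.mem_univ z)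
    let vP : sp k k ⟶ Y := Over.homMk (IsOpenImmersion.lift P.ι v.left hrange) (by
      show _ ≫ P.ι ≫ B.V.hom = _
      rw [IsOpenImmersion.lift_fac_assoc]; exact Over.w v)
    obtain ⟨φ, hφ⟩ := Misc15.AffinePoints.pt_surjective (vP ≫ ε.inv)
    have hv' : pt φ ≫ ε.hom ≫ ιP = v := by
      rw [hφ, Category.assoc, Iso.inv_hom_id_assoc]
      exact Over.OverMorphism.ext (IsOpenImmersion.lift_fac P.ι v.left hrange)
    let E : ((D.A →ₐ[k] k) → k) →ₗ[k] ((sp k k ⟶ T) → k) :=
      LinearMap.funLeft k k fun t => Classical.choose (D.exists_pt t)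
    have hsrc := hspan φ
    have hmap := Submodule.mem_map_of_mem (f := E) hsrc
    rw [Submodule.map_span, ← Set.image_comp] at hmap
    have hEχ : (⇑E ∘ fun (χ : D.A) (s : D.A →ₐ[k] k) => s χ) = fun (χ : D.A) (t : sp k k ⟶ T) => D.tv χ t := by
      funext χ t
      show Classical.choose (D.exists_pt t) χ = D.tv χ t
      conv_rhs => rw [← Classical.choose_spec (D.exists_pt t), D.tv_pt]
    rw [hEχ] at hmap
    refine (congrArg (fun F => F ∈ Submodule.span k _) ?_).mpr hmap
    funext t
    show _ = (Algebra.TensorProduct.lift (Classical.choose (D.exists_pt t)) φ fun _ _ => .all _ _) (gval f Ξ)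
    rw [← gval_comp]
    congr 1
    conv_lhs => rw [← Classical.choose_spec (D.exists_pt t), ← hv']
    simp only [Ξ]
    rw [comp_lift_assoc, ← Category.assoc (pt _) (pt _), ← Category.assoc (pt _) (pt _), ← CoactBr.pt_comp, ← CoactBr.pt_comp,
      Algebra.TensorProduct.lift_comp_includeLeft,
      show (Algebra.TensorProduct.lift (Classical.choose (D.exists_pt t)) φ fun _ _ => .all _ _).comp
        Algebra.TensorProduct.includeRight = φ from AlgHom.ext (by simp)]
    simp only [Category.assoc]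
  choose W S hx hS hspan using loc
  obtain ⟨pts, hpts⟩ := isCompact_univ.elim_finite_subcover (fun x : X.left => (W x : Set X.left))
    (fun x => (W x).isOpen) fun x _ => Set.mem_iUnion.2 ⟨x, hx x⟩
  refine ⟨pts.biUnion S, fun χ hχ => ?_, fun v => ?_⟩
  · obtain ⟨x, -, hχx⟩ := Finset.mem_biUnion.1 hχ
    exact hS x hχx
  · obtain ⟨x, hxp, hvx⟩ := Set.mem_iUnion₂.1 (hpts (Set.mem_univ ((v ≫ B.π).left (IsLocalRing.closedPoint k))))
    exact Submodule.span_mono (Set.image_mono (Finset.coe_subset.2 (Finset.subset_biUnion_of_mem S hxp))) (hspan x v hvx)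

end Groth.Agent.HMTor29
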