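import Groth.Agent.HMTor29.Chart
import Mathlib.RingTheory.Polynomial.Basic
import Mathlib.FieldTheory.IsAlgClosed.Basic

/-! # The weight of a one-parameter subgroup on the fibre at a fixed point -/

set_option autoImplicit false
set_option linter.style.haveILetI false
set_option backward.isDefEq.respectTransparency.types false

noncomputable section

universe u

open CategoryTheory CategoryTheory.Limits MonoidalCategory CartesianMonoidalCategory MonObj AlgebraicGeometry Opposite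
open CoactBr (sp pt)
open LaurentPolynomial (T)

namespace Groth.Agent.HMTor29

open HMConj (act_mul act_one lift_act_π)

variable {k : Type u} [Field k]

/-- units of the Laurent polynomial ring are monomials -/
theorem isUnit_laurent {P : LaurentPolynomial k} (h : IsUnit P) :
    ∃ (c : k) (n : ℤ), P = algebraMap k (LaurentPolynomial k) c * T n := by
  obtain ⟨m, p, hp⟩ := LaurentPolynomial.exists_T_pow P
  obtain ⟨Q, hQ⟩ := h.exists_right_inv
  obtain ⟨m', q, hq⟩ := LaurentPolynomial.exists_T_pow Q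
  have hpq : p * q = Polynomial.X ^ (m + m') := by
    apply Polynomial.toLaurent_injective
    rw [map_mul, hp, hq, Polynomial.toLaurent_X_pow,
      show P * T (m : ℤ) * (Q * T (m' : ℤ)) = (P * Q) * (T (m : ℤ) * T (m' : ℤ)) by ring, hQ, _root_.one_mul,
      ← LaurentPolynomial.T_add]
    simp
  obtain ⟨i, -, hi⟩ := (dvd_prime_pow Polynomial.prime_X (m + m')).1 (Dvd.intro q hpq)
  obtain ⟨u, hu⟩ := hi.symm
  obtain ⟨c, -, hc⟩ := Polynomial.isUnit_iff.1 u.isUnit
  refine ⟨c, (i : ℤ) - m, ?_⟩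
  have h1 : Polynomial.toLaurent p * T (-(m : ℤ)) = P := by
    rw [hp, _root_.mul_assoc, ← LaurentPolynomial.T_add]; simp
  rw [← h1, ← hu, ← hc, map_mul, Polynomial.toLaurent_X_pow, Polynomial.toLaurent_C, sub_eq_add_neg,
    LaurentPolynomial.T_add, LaurentPolynomial.algebraMap_apply]
  simp only [Algebra.algebraMap_self, RingHom.id_apply]
  ring

theorem lev_algebraMap {R : Type u} [CommRing R] [Algebra k R] (r : Rˣ) (c : k) :
    lev (k := k) r (algebraMap k (LaurentPolynomial k) c) = algebraMap k R c := (lev r).commutes c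

theorem exists_zpow_ne_one [Infinite k] {n : ℤ} (hn : n ≠ 0) : ∃ z : kˣ, z ^ n ≠ 1 := by
  classical
  by_contra hall
  push Not at hall
  have hp : (Polynomial.X ^ n.natAbs - 1 : Polynomial k) ≠ 0 :=
    Polynomial.X_pow_sub_C_ne_zero (by omega) 1
  refine hp (Polynomial.eq_zero_of_infinite_isRoot _
    (Set.Infinite.mono (fun z (hz : z ≠ 0) => ?_) (Set.finite_singleton (0 : k)).infinite_compl))
  have h' := congrArg Units.val (show (Units.mk0 z hz) ^ n.natAbs = 1 from by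
    rcases Int.natAbs_eq n with e | e
    · rw [← zpow_natCast, ← e]; exact hall _
    · rw [← zpow_natCast, ← neg_neg (n.natAbs : ℤ), ← e, zpow_neg, hall, inv_one])
  simp at h'
  simp [Polynomial.IsRoot, h']

theorem zpow_inj [Infinite k] {m n : ℤ} (h : ∀ z : kˣ, z ^ m = z ^ n) : m = n := by
  by_contra hne
  obtain ⟨z, hz⟩ := exists_zpow_ne_one (k := k) (sub_ne_zero.2 hne)
  exact hz (by rw [zpow_sub, h z, mul_inv_cancel])

/-! the unit object -/

theorem pt_self {R : Type u} [CommRing R] [Algebra k R] (f g : sp k R ⟶ sp k k) : f = g := by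
  apply sp_ext
  refine RingHom.ext fun c => ?_
  rw [show c = algebraMap k k c from rfl, gfn_const, gfn_const]

/-- the rational point as a `k`-algebra point -/
def uI : 𝟙_ (Over (Spec (CommRingCat.of k))) ⟶ sp k k :=
  toSp (sc _) (RingHom.ext fun _ => rfl)

theorem toUnit_uI : toUnit (sp k k) ≫ uI = 𝟙 _ := pt_self _ _

variable {G X : Over (Spec (CommRingCat.of k))} [GrpObj G] {a : AlgGrp.Action G X} (B : GLinSh.LinBun G a)
  (l : Red.Gm (Spec (CommRingCat.of k)) ⟶ G)

/-- the orbit of a point, as a point with values in Laurent polynomials -/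
def orb {Y : Over (Spec (CommRingCat.of k))} (b : AlgGrp.Action G Y) (z : sp k k ⟶ Y) :
    sp k (LaurentPolynomial k) ⟶ Y :=
  lift (gpt tU ≫ l) (pt (Algebra.ofId k (LaurentPolynomial k)) ≫ z) ≫ b.act

theorem pt_lev_const (z : kˣ) : pt (lev (k := k) z) ≫ pt (Algebra.ofId k (LaurentPolynomial k)) = 𝟙 (sp k k) :=
  pt_self _ _

theorem lev_orb {Y : Over (Spec (CommRingCat.of k))} (b : AlgGrp.Action G Y) (v : sp k k ⟶ Y) (z : kˣ) :
    pt (lev (k := k) z) ≫ orb l b v = lift (gpt z ≫ l) v ≫ b.act := by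
  rw [orb, comp_lift_assoc, ← Category.assoc, lev_gpt, ← Category.assoc, pt_lev_const, Category.id_comp]

theorem orb_π (v : sp k k ⟶ B.V) : orb l B.lift v ≫ B.π = orb l a (v ≫ B.π) := by
  rw [orb, lift_act_π, Category.assoc]; rfl

variable {B l}

/-- the weight property of a witness of `HasFibreWt`, on rational values -/
theorem val_act_of_weight {y0 : 𝟙_ (Over (Spec (CommRingCat.of k))) ⟶ X} {U : X.left.Opens}
    {y : Γ(B.V.left, B.π.left ⁻¹ᵁ U)} {w : ℤ} (hU : y0.left ⁻¹ᵁ U = ⊤) (hfix : HMNum.IsFixedBy a l y0)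
    (hwt : ∀ (T' : Over (Spec (CommRingCat.of k))) (t : T' ⟶ 𝟙_ _) (g : T' ⟶ Red.Gm _) (v : T' ⟶ B.V)
      (hv : v ≫ B.π = t ≫ y0) (hgv : (lift (g ≫ l) v ≫ B.lift.act) ≫ B.π = t ≫ y0),
        HMNum.evalFn B.π y (lift (g ≫ l) v ≫ B.lift.act) (HMNum.top_le_preimage B.π hU hgv) =
          ((GmPts.unitOfPt g ^ w : (Γ(T'.left, ⊤))ˣ) : Γ(T'.left, ⊤)) *
            HMNum.evalFn B.π y v (HMNum.top_le_preimage B.π hU hv))
    (z : kˣ) (v : sp k k ⟶ B.V) (hv : v ≫ B.π = toUnit _ ≫ y0)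
    (e : ⊤ ≤ v.left ⁻¹ᵁ (B.π.left ⁻¹ᵁ U))
    (e' : ⊤ ≤ (lift (gpt z ≫ l) v ≫ B.lift.act).left ⁻¹ᵁ (B.π.left ⁻¹ᵁ U)) :
    val y (lift (gpt z ≫ l) v ≫ B.lift.act) e' = ((z ^ w : kˣ) : k) * val y v e := by
  have hgv : (lift (gpt z ≫ l) v ≫ B.lift.act) ≫ B.π = toUnit _ ≫ y0 := by
    rw [lift_act_π, hv, hfix _ (toUnit _) (gpt z)]
  have h := congrArg (spΓ (k := k) k) (hwt _ (toUnit _) (gpt z) v hv hgv)
  have hu : GmPts.unitOfPt (gpt (k := k) z) = Units.map (spΓ (k := k) k).symm.toMonoidHom z :=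
    GmPts.unitOfPt_ptOfUnit _
  rw [map_mul, hu, ← map_zpow] at h
  refine h.trans ?_
  congr 1
  exact (spΓ (k := k) k).apply_symm_apply _

variable (B l) [IsMonHom l] [IsAlgClosed k]

/-- at a fixed rational point the weight exists -/
theorem exists_fibreWt (y0 : 𝟙_ (Over (Spec (CommRingCat.of k))) ⟶ X) (hfix : HMNum.IsFixedBy a l y0) :
    ∃ w : ℤ, HMNum.HasFibreWeight B l y0 w := by
  obtain ⟨U, y, hy, hx, W, hW, hWU, hxW⟩ := exists_chart B (y0.left (IsLocalRing.closedPoint k))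
  haveI : Subsingleton (𝟙_ (Over (Spec (CommRingCat.of k)))).left := inferInstanceAs (Subsingleton (PrimeSpectrum k))
  have hU : y0.left ⁻¹ᵁ U = ⊤ := TopologicalSpace.Opens.ext (Set.eq_univ_of_forall fun z => by
    rw [Subsingleton.elim z (IsLocalRing.closedPoint k)]; exact hx)
  let q : sp k k ⟶ X := toUnit _ ≫ y0
  have hall : ∀ z : (𝟙_ (Over (Spec (CommRingCat.of k)))).left, y0.left z ∈ W := fun z => by
    rw [Subsingleton.elim z (IsLocalRing.closedPoint k)]; exact hxW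
  have hqW : ⊤ ≤ q.left ⁻¹ᵁ W := fun z _ => hall ((toUnit (sp k k)).left z)
  obtain ⟨v0, hv0, e0, hr0⟩ := exists_pt B hy hW hWU q hqW 1
  let L0 := orb l B.lift v0
  have hL0 : L0 ≫ B.π = toUnit _ ≫ y0 := by
    rw [orb_π, hv0, orb]
    rw [show pt (Algebra.ofId k (LaurentPolynomial k)) ≫ q = toUnit _ ≫ y0 from by
      rw [← Category.assoc]; congr 1; exact toUnit_unique _ _]
    exact hfix _ (toUnit _) (gpt tU)
  have eL : ⊤ ≤ L0.left ⁻¹ᵁ (B.π.left ⁻¹ᵁ U) := HMNum.top_le_preimage B.π hU hL0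
  let c : LaurentPolynomial k := val y L0 eL
  have hunit : IsUnit c := by
    have hn : Nonzero B (pt (Algebra.ofId k (LaurentPolynomial k)) ≫ v0) :=
      Nonzero.comp ⟨U, y, e0, hy, by rw [hr0]; exact isUnit_one⟩ _
    obtain ⟨U₀, y₀, e₀, hy₀, hu⟩ := hn
    exact isUnit_val_act B _ hy₀ hy e₀ eL hu
  obtain ⟨s, w, hs⟩ := isUnit_laurent hunit
  have h1 : s = 1 := by
    have hc : lev (k := k) (1 : kˣ) c = 1 := by
      have he := val_comp y L0 eL (lev (k := k) (1 : kˣ)) (le_comp eL _)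
      rw [val_congr y (show pt (lev (k := k) (1 : kˣ)) ≫ L0 = v0 from by
        rw [lev_orb, gpt_one, MonObj.one_comp, act_one]) _ e0, hr0] at he
      exact he.symm
    rw [hs, map_mul, lev_algebraMap, lev_T] at hc
    simpa using hc
  rw [h1, map_one, _root_.one_mul] at hs
  refine ⟨w, hfix, U, y, hy, hU, fun T' t g v hv hgv => ?_⟩
  obtain ⟨C, hC⟩ := exists_evalAct B (g ≫ l) (t ≫ y0) (T' := T') hy hy
  have hC1 := hC v hv (HMNum.top_le_preimage B.π hU hv) (HMNum.top_le_preimage B.π hU hgv)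
  let v' : T' ⟶ B.V := toL g ≫ pt (Algebra.ofId k (LaurentPolynomial k)) ≫ v0
  have hv' : v' ≫ B.π = t ≫ y0 := by
    simp only [v', Category.assoc, hv0, q]
    simp only [← Category.assoc]
    congr 1
    exact toUnit_unique _ _
  have hgv' : lift (g ≫ l) v' ≫ B.lift.act = toL g ≫ L0 := by
    show _ = toL g ≫ orb l B.lift v0
    rw [orb, comp_lift_assoc, ← Category.assoc (toL g) (gpt tU), toL_gpt]
  have ev' : HMNum.evalFn B.π y v' (HMNum.top_le_preimage B.π hU hv') = 1 := by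
    have epre : ⊤ ≤ (pt (Algebra.ofId k (LaurentPolynomial k)) ≫ v0).left ⁻¹ᵁ (B.π.left ⁻¹ᵁ U) := le_comp e0 _
    rw [HMNum.evalFn, appLE_comp y _ epre]
    have h := val_comp y v0 e0 (Algebra.ofId k (LaurentPolynomial k)) epre
    rw [hr0, map_one] at h
    rw [gfn_apply]
    rw [show spΓ (k := k) (LaurentPolynomial k)
      ((pt (Algebra.ofId k (LaurentPolynomial k)) ≫ v0).left.appLE (B.π.left ⁻¹ᵁ U) ⊤ epre y) = 1 from h, map_one]
  have hC2 := hC v' hv' (HMNum.top_le_preimage B.π hU hv')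
    (HMNum.top_le_preimage B.π hU (t := t) (x₀ := y0) (by rw [lift_act_π, hv', hfix]))
  rw [ev', _root_.mul_one] at hC2
  have hCval : C = ((GmPts.unitOfPt g ^ w : (Γ(T'.left, ⊤))ˣ) : Γ(T'.left, ⊤)) := by
    rw [← hC2, HMNum.evalFn, HMConj.eval_congr hgv' _ (le_comp eL _) y, appLE_comp y L0 eL, gfn_apply,
      show spΓ (k := k) (LaurentPolynomial k) (L0.left.appLE (B.π.left ⁻¹ᵁ U) ⊤ eL y) = c from rfl, hs, gfn_toL_T]
  rw [hC1, hCval]

end Groth.Agent.HMTor29
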